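import Cfsg.Agent.McLRank.Aut
import Cfsg.Agent.McL.Out
import Cfsg.Agent.Automizer4411.HallPair
import Cfsg.Agent.Fusion.SolvablePSolvable
import Cfsg.Agent.S0205
import Cfsg.Agent.McL.Centralizer

/-!
An element of order eleven of the McLaughlin group commutes with none of order five: its centraliser
preserves a set of 22 points that separates all 275.  Hence no subgroup of odd order is transitive on
the involutions.
-/

set_option autoImplicit false
set_option maxRecDepth 100000
set_option maxHeartbeats 0
set_option linter.style.haveILetI false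

namespace Cfsg.Agent.StdMcL.NoOdd

open Cfsg Cfsg.Agent.Compute Cfsg.Agent.StemCert Cfsg.Agent.McLRank

/-- Adjacency in the numbering of the model. -/
noncomputable def aB (p q : ℕ) : Bool := adjB (getField 9 numbering p) (getField 9 numbering q)

/-- The iterates of the element of order eleven. -/
noncomputable def xp (i p : ℕ) : ℕ :=
  Nat.rec (motive := fun _ => ℕ) p (fun _ r => appW 9 McL.Model.codes [0, 2] r) i

/-- The invariant selecting the 22 points. -/
noncomputable def keyB (p : ℕ) : Bool :=
  !aB p (xp 1 p) && !aB p (xp 2 p) && !aB p (xp 3 p) && aB p (xp 4 p) && aB p (xp 5 p)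

/-- The points. -/
def pts22 : List ℕ :=
  [7, 17, 36, 40, 43, 50, 105, 109, 115, 151, 158, 164, 171, 178, 184, 231, 241, 246, 252, 256, 258, 270]

/-- Membership in the points. -/
noncomputable def inU (p : ℕ) : Bool :=
  List.rec (motive := fun _ => Bool) false (fun a _ r => Nat.beq a p || r) pts22

/-- The pattern of adjacency to the points. -/
noncomputable def patU (r : ℕ) : ℕ :=
  List.rec (motive := fun _ => ℕ) 0 (fun a _ t => Nat.add (Nat.mul 2 t) (cond (aB a r) 1 0)) pts22

theorem order_check : allBelow 275 (fun p => Nat.beq (xp 11 p) p && !Nat.beq (xp 1 p) p) = true := by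
  decide +kernel

theorem key_check : allBelow 275 (fun p => bEq (keyB p) (inU p)) = true ∧
    allB (fun a => Nat.blt a 275) pts22 = true := by
  refine ⟨?_, ?_⟩ <;> decide +kernel

theorem separate : allBelow 275 (fun r => forceN (patU r) fun t =>
    allBelow r fun s => !Nat.beq (patU s) t) = true := by decide +kernel

/-- The element of order eleven. -/
noncomputable def x₀ : ↥Spor.McL := evalW McL.gen [0, 2]

theorem ι_x₀ (p : Fin 275) : ∀ i, ((McL.ι x₀ ^ i) p : ℕ) = xp i p
  | 0 => rfl
  | i + 1 => by
    rw [pow_succ', Equiv.Perm.mul_apply, x₀, appW_spec McL.coded [0, 2] (by simp), ← x₀, ι_x₀ p i]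
    rfl

theorem ι_inj_pow {g : ↥Spor.McL} {n : ℕ} (h : McL.ι g ^ n = 1) : g ^ n = 1 :=
  McL.ι_injective (by rw [map_pow, h, map_one])

theorem x₀_free (p : Fin 275) : McL.ι x₀ p ≠ p := fun e => by
  have h := allBelow_eq_true.mp order_check p p.2
  simp only [Bool.and_eq_true, Bool.not_eq_true'] at h
  rw [← ι_x₀ p 1, pow_one, e] at h
  simp at h

theorem orderOf_x₀ : orderOf x₀ = 11 := by
  have := Fact.mk (show Nat.Prime 11 by norm_num)
  refine orderOf_eq_prime (ι_inj_pow (Equiv.ext fun p => Fin.ext ?_)) fun e => x₀_free 0 (by rw [e, map_one]; rfl)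
  have h := allBelow_eq_true.mp order_check p p.2
  simp only [Bool.and_eq_true, Nat.beq_eq] at h
  rw [ι_x₀, h.1]
  rfl

theorem aB_ι (g : ↥Spor.McL) (p q : Fin 275) :
    aB (McL.ι g p : ℕ) (McL.ι g q : ℕ) = aB p q := by
  have h := ψ_range_le ⟨g, rfl⟩ (numE p) (numE q)
  have hv : ∀ r : Fin 275, ψ g (numE r) = numE (McL.ι g r) := fun r => by
    show numE (McL.ι g (numE.symm (numE r))) = _
    rw [Equiv.symm_apply_apply]
  rw [hv, hv] at h
  exact Bool.eq_iff_iff.2 h

theorem key_commute {g : ↥Spor.McL} (hg : g * x₀ = x₀ * g) (p : Fin 275) :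
    keyB (McL.ι g p) = keyB p := by
  have hi : ∀ i, xp i (McL.ι g p : ℕ) = (McL.ι g ((McL.ι x₀ ^ i) p) : ℕ) := fun i => by
    rw [← ι_x₀, ← Equiv.Perm.mul_apply, ← Equiv.Perm.mul_apply, ← map_pow, ← map_mul, ← map_mul,
      (show Commute g x₀ from hg).pow_right i]
  simp only [keyB, hi, aB_ι, ι_x₀]

theorem not_commute {y : ↥Spor.McL} (hy : orderOf y = 5) : y * x₀ ≠ x₀ * y := by
  intro hc
  classical
  have hcm : Commute y x₀ := hc
  set z := x₀ * y with hz
  have hzc : z * x₀ = x₀ * z := by rw [hz, mul_assoc, hc]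
  set U : Finset (Fin 275) := Finset.univ.filter fun p => keyB p = true with hU
  have hUcard : U.card ≤ 22 := by
    calc U.card = (U.image fun p : Fin 275 => (p : ℕ)).card :=
          (Finset.card_image_of_injective _ Fin.val_injective).symm
      _ ≤ pts22.toFinset.card := Finset.card_le_card fun a ha => by
          obtain ⟨p, hp, rfl⟩ := Finset.mem_image.1 ha
          have h := allBelow_eq_true.mp key_check.1 p p.2
          rw [bEq_true_iff] at h
          have hp' : inU p = true := h ▸ (Finset.mem_filter.1 hp).2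
          rw [List.mem_toFinset]
          revert hp'
          unfold inU
          generalize pts22 = l
          induction l with
          | nil => intro hp'; exact Bool.noConfusion hp'
          | cons a l ih =>
            intro hp'
            simp only [Bool.or_eq_true, Nat.beq_eq] at hp'
            rcases hp' with e | e
            · exact e ▸ List.mem_cons_self
            · exact List.mem_cons_of_mem _ (ih e)
      _ ≤ 22 := (List.toFinset_card_le _).trans (le_of_eq rfl)
  have hz55 : z ^ 55 = 1 := by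
    have ex : x₀ ^ 55 = 1 := orderOf_dvd_iff_pow_eq_one.1 (orderOf_x₀ ▸ by norm_num)
    have ey : y ^ 55 = 1 := orderOf_dvd_iff_pow_eq_one.1 (hy ▸ by norm_num)
    rw [hz, hcm.symm.mul_pow, ex, ey, one_mul]
  have hx5 : ∀ p : Fin 275, (McL.ι x₀ ^ 5) p ≠ p := fun p e => by
    refine x₀_free p ?_
    have h45 : McL.ι x₀ = (McL.ι x₀ ^ 5) ^ 9 := by
      rw [← pow_mul, ← map_pow, show x₀ ^ (5 * 9) = (x₀ ^ 11) ^ 4 * x₀ by rw [← pow_mul, ← pow_succ],
        ← orderOf_x₀, pow_orderOf_eq_one, one_pow, one_mul]
    rw [h45]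
    exact (Equiv.Perm.pow_apply_eq_self_of_apply_eq_self e 9)
  have hfix : ∀ p ∈ U, McL.ι y p = p := by
    intro p hp
    have hmem : ∀ i, (McL.ι z ^ i) p ∈ U := fun i => by
      induction i with
      | zero => exact hp
      | succ i ih =>
        rw [pow_succ', Equiv.Perm.mul_apply]
        simp only [hU, Finset.mem_filter, Finset.mem_univ, true_and] at ih ⊢
        rwa [key_commute hzc]
    obtain ⟨i, hi, j, hj, hne, heq⟩ := Finset.exists_ne_map_eq_of_card_lt_of_maps_to
      (s := Finset.range 23) (t := U) (by rw [Finset.card_range]; omega) (f := fun i => (McL.ι z ^ i) p)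
      fun i _ => hmem i
    rw [Finset.mem_range] at hi hj
    have hcoe : ∀ n, (⇑(McL.ι z))^[n] p = (McL.ι z ^ n) p := fun n => by rw [Equiv.Perm.coe_pow]
    have hd : ∃ d, 0 < d ∧ d ≤ 22 ∧ (McL.ι z ^ d) p = p := by
      rcases lt_or_gt_of_ne hne with h | h
      · refine ⟨j - i, by omega, by omega, (McL.ι z ^ i).injective ?_⟩
        rw [← Equiv.Perm.mul_apply, ← pow_add, show i + (j - i) = j by omega]
        exact heq.symm
      · refine ⟨i - j, by omega, by omega, (McL.ι z ^ j).injective ?_⟩
        rw [← Equiv.Perm.mul_apply, ← pow_add, show j + (i - j) = i by omega]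
        exact heq
    obtain ⟨d, hd0, hd22, hd⟩ := hd
    have h1 : Function.minimalPeriod (McL.ι z) p ∣ d :=
      Function.IsPeriodicPt.minimalPeriod_dvd ((hcoe d).trans hd)
    have h2 : Function.minimalPeriod (McL.ι z) p ∣ 55 :=
      Function.IsPeriodicPt.minimalPeriod_dvd ((hcoe 55).trans (by rw [← map_pow, hz55, map_one]; rfl))
    set m := Function.minimalPeriod (McL.ι z) p with hm
    have hper : ∀ n, m ∣ n → (McL.ι z ^ n) p = p := fun n hn => by
      rw [← hcoe]; exact Function.isPeriodicPt_iff_minimalPeriod_dvd.2 hn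
    have hm22 : m ≤ 22 := (Nat.le_of_dvd hd0 h1).trans hd22
    have hcases : m ∣ 5 ∨ m ∣ 11 := by
      have hmem : m ∈ Nat.divisors 55 := Nat.mem_divisors.2 ⟨h2, by norm_num⟩
      rw [show Nat.divisors 55 = {1, 5, 11, 55} from rfl] at hmem
      simp only [Finset.mem_insert, Finset.mem_singleton] at hmem
      rcases hmem with h | h | h | h <;> [left; left; right; omega] <;> rw [h] <;> norm_num
    rcases hcases with h | h
    · exfalso
      refine hx5 p ?_
      have := hper 5 h
      rwa [← map_pow, hz, hcm.symm.mul_pow, ← hy, pow_orderOf_eq_one, mul_one, hy, map_pow] at this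
    · have := hper 11 h
      rwa [← map_pow, hz, hcm.symm.mul_pow, ← orderOf_x₀, pow_orderOf_eq_one, one_mul, orderOf_x₀,
        show (11 : ℕ) = 5 * 2 + 1 from rfl, pow_succ, pow_mul, ← hy, pow_orderOf_eq_one, one_pow,
        one_mul] at this
  have hall : McL.ι y = 1 := by
    refine Equiv.ext fun r => ?_
    have hlt : allB (fun a => Nat.blt a 275) pts22 = true := key_check.2
    have hA : ∀ a ∈ pts22, aB a (McL.ι y r : ℕ) = aB a r := by
      intro a ha
      have ha' : a < 275 := Nat.blt_eq.mp (Cfsg.Agent.StemCert.allB_spec hlt a ha)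
      have hkey : keyB a = true := by
        have h := allBelow_eq_true.mp key_check.1 a ha'
        rw [bEq_true_iff] at h
        rw [h]
        revert ha
        unfold inU
        generalize pts22 = l
        intro ha
        induction l with
        | nil => simp at ha
        | cons b l ih =>
          rcases List.mem_cons.1 ha with e | e
          · simp [e]
          · simp [ih e]
      have hp := hfix ⟨a, ha'⟩ (by simp only [hU, Finset.mem_filter, Finset.mem_univ, true_and]; exact hkey)
      have := aB_ι y ⟨a, ha'⟩ r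
      rw [hp] at this
      exact this
    have hpat : patU (McL.ι y r : ℕ) = patU r := by
      unfold patU
      generalize pts22 = l at hA
      induction l with
      | nil => rfl
      | cons b l ih =>
        simp only [hA b List.mem_cons_self, ih fun a ha => hA a (List.mem_cons_of_mem _ ha)]
    by_contra hne
    have key : ∀ u v : Fin 275, (v : ℕ) < u → patU v ≠ patU u := fun u v huv e => by
      have h := allBelow_eq_true.mp separate u u.2
      rw [StemCert.forceN_eq] at h
      have h' := allBelow_eq_true.mp h v huv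
      simp [e] at h'
    have hne' : (McL.ι y r : ℕ) ≠ r := fun e => hne (Fin.ext e)
    rcases lt_or_gt_of_ne hne' with h | h
    · exact key r _ h hpat
    · exact key _ r h hpat.symm
  have hy1 : y = 1 := McL.ι_injective (by rw [hall, map_one])
  rw [hy1, orderOf_one] at hy
  norm_num at hy

/-- No element of order eleven commutes with one of order five. -/
theorem no_commute {x y : ↥Spor.McL} (hx : orderOf x = 11) (hy : orderOf y = 5) : x * y ≠ y * x := by
  classical
  haveI : Fact (Nat.Prime 11) := ⟨by norm_num⟩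
  intro hxy
  have hfac : (Nat.card ↥Spor.McL).factorization 11 = 1 := by
    rw [McL.card_mcl, show (898128000 : ℕ) = 11 * 81648000 by norm_num,
      Nat.factorization_mul (by norm_num) (by norm_num), Finsupp.add_apply,
      Nat.Prime.factorization_self (by norm_num),
      Nat.factorization_eq_zero_of_not_dvd (by norm_num : ¬ 11 ∣ 81648000)]
  have hcard : ∀ {a : ↥Spor.McL}, orderOf a = 11 →
      Nat.card (Subgroup.zpowers a) = 11 ^ (Nat.card ↥Spor.McL).factorization 11 := fun ha => by
    rw [Nat.card_zpowers, ha, hfac, pow_one]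
  obtain ⟨g, hg⟩ := MulAction.exists_smul_eq ↥Spor.McL (Sylow.ofCard _ (hcard hx))
    (Sylow.ofCard _ (hcard orderOf_x₀))
  have hmem : x₀ ∈ Subgroup.zpowers (g * x * g⁻¹) := by
    have e := congrArg Sylow.toSubgroup hg
    rw [Sylow.coe_subgroup_smul, Sylow.coe_ofCard, Sylow.coe_ofCard] at e
    have h := Subgroup.mem_zpowers x₀
    rw [← e] at h
    obtain ⟨w, hw, hw'⟩ := h
    obtain ⟨i, hi⟩ := Subgroup.mem_zpowers_iff.1 hw
    refine ⟨i, ?_⟩
    show (g * x * g⁻¹) ^ i = x₀
    rw [conj_zpow, hi, ← hw']
    rfl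
  obtain ⟨i, hi⟩ := hmem
  refine not_commute (y := g * y * g⁻¹)
    ((MulEquiv.orderOf_eq (MulAut.conj g) y).trans hy) ?_
  have hc : Commute (g * y * g⁻¹) (g * x * g⁻¹) := by
    show _ = _
    rw [show g * y * g⁻¹ * (g * x * g⁻¹) = g * (y * x) * g⁻¹ by group, ← hxy]
    group
  rw [← hi]
  exact (hc.zpow_right i).eq

open Subgroup in
/-- No subgroup of odd order is transitive on the involutions. -/
theorem no_odd_transitive {H : Type*} [Group H] [Finite H] (hH : Spor.IsoMcL H) (D : Subgroup H)
    (hodd : Odd (Nat.card D)) (t : H) (ht : orderOf t = 2)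
    (htr : ∀ g : H, ∃ d ∈ D, d * t * d⁻¹ = g * t * g⁻¹) : False := by
  classical
  obtain ⟨e⟩ := hH
  haveI : Fact (Nat.Prime 5) := ⟨by norm_num⟩
  haveI : Fact (Nat.Prime 11) := ⟨by norm_num⟩
  haveI : Fact (Nat.Prime 2) := ⟨Nat.prime_two⟩
  have hcH : Nat.card H = 898128000 := (Nat.card_congr e.toEquiv).trans McL.card_mcl
  -- the number of involutions
  obtain ⟨g, hg⟩ := isConj_iff.1 (McL.conj_tInv (e t) (by
    rw [MulEquiv.orderOf_eq, ht])).symm
  have hC : Nat.card (centralizer ({t} : Set H)) = 40320 := by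
    rw [← McL.card_centralizer, ← hg]
    refine Nat.card_congr ((e.toEquiv.trans (MulAut.conj g).toEquiv).subtypeEquiv fun a => ?_)
    rw [mem_centralizer_singleton_iff, mem_centralizer_singleton_iff]
    show _ ↔ g * e a * g⁻¹ * (g * e t * g⁻¹) = g * e t * g⁻¹ * (g * e a * g⁻¹)
    rw [show g * e a * g⁻¹ * (g * e t * g⁻¹) = MulAut.conj g (e (a * t)) by simp [map_mul, mul_assoc],
      show g * e t * g⁻¹ * (g * e a * g⁻¹) = MulAut.conj g (e (t * a)) by simp [map_mul, mul_assoc],
      EmbeddingLike.apply_eq_iff_eq, e.injective.eq_iff]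
  set C := centralizer ({t} : Set H)
  have hidx : C.index = 22275 := by
    have := C.card_mul_index
    rw [hC, hcH] at this
    omega
  have hdvd : 22275 ∣ Nat.card D := by
    have horb : MulAction.orbit D (QuotientGroup.mk 1 : H ⧸ C) = Set.univ := by
      refine Set.eq_univ_of_forall fun q => ?_
      obtain ⟨g, rfl⟩ := QuotientGroup.mk_surjective q
      obtain ⟨d, hd, hde⟩ := htr g
      refine ⟨⟨d, hd⟩, ?_⟩
      show (QuotientGroup.mk (d * 1) : H ⧸ C) = QuotientGroup.mk g
      rw [mul_one, QuotientGroup.eq, mem_centralizer_singleton_iff]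
      calc d⁻¹ * g * t = d⁻¹ * (g * t * g⁻¹) * g := by group
        _ = d⁻¹ * (d * t * d⁻¹) * g := by rw [hde]
        _ = t * (d⁻¹ * g) := by group
    have h1 : (MulAction.stabilizer D (QuotientGroup.mk 1 : H ⧸ C)).index = 22275 := by
      rw [MulAction.index_stabilizer, horb, Set.ncard_univ, ← hidx]
      rfl
    exact h1 ▸ Subgroup.index_dvd_card _
  haveI : Group.IsSolvable D := Cfsg.Agent.S0205.result hodd
  obtain ⟨K, hK, hK5, hK11⟩ := Automizer4411.exists_pairHall (p := 5) (q := 11) D
    (Fusion.isPSolvable_of_isSolvable D)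
  have hKH : Nat.card K ∣ 898128000 :=
    hcH ▸ (card_subgroup_dvd_card K).trans (card_subgroup_dvd_card D)
  have h275 : 275 ∣ Nat.card K := by
    have h := (show (275 : ℕ) ∣ 22275 by norm_num).trans hdvd
    rw [← K.card_mul_index] at h
    refine Nat.Coprime.dvd_of_dvd_mul_right ?_ h
    rw [show (275 : ℕ) = 5 ^ 2 * 11 by norm_num]
    exact Nat.Coprime.mul_left
      (Nat.Coprime.pow_left _ ((Nat.Prime.coprime_iff_not_dvd (by norm_num)).2 hK5))
      ((Nat.Prime.coprime_iff_not_dvd (by norm_num)).2 hK11)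
  have h1375 : Nat.card K ∣ 1375 := by
    have hcop : (Nat.card K).Coprime 653184 := Nat.coprime_of_dvd fun r hr hrK hr' => by
      rcases hK r hr hrK with rfl | rfl <;> norm_num at hr'
    exact hcop.dvd_of_dvd_mul_left (by rwa [show (653184 : ℕ) * 1375 = 898128000 by norm_num])
  -- the Sylow subgroup of order eleven is normal
  obtain ⟨P⟩ : Nonempty (Sylow 11 K) := inferInstance
  have hP : Nat.card P = 11 := by
    obtain ⟨n, hn⟩ := IsPGroup.iff_card.1 P.isPGroup'
    have h11 := P.dvd_card_of_dvd_card ((show (11 : ℕ) ∣ 275 by norm_num).trans h275)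
    have hd := (card_subgroup_dvd_card (P : Subgroup K)).trans h1375
    rw [hn] at hd h11 ⊢
    match n with
    | 0 => norm_num at h11
    | 1 => rfl
    | n + 2 => exact absurd ((pow_dvd_pow 11 (by omega : 2 ≤ n + 2)).trans hd) (by norm_num)
  haveI : (P : Subgroup K).Normal := by
    have h1 : Nat.card (Sylow 11 K) ≡ 1 [MOD 11] := card_sylow_modEq_one 11 K
    have h2 : Nat.card (Sylow 11 K) ∣ 125 := by
      have h := P.card_dvd_index
      refine h.trans ?_
      have h3 := (P : Subgroup K).card_mul_index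
      rw [hP] at h3
      have h4 : 11 * (P : Subgroup K).index ∣ 11 * 125 := h3 ▸ h1375
      exact Nat.dvd_of_mul_dvd_mul_left (by norm_num) h4
    have hmem : Nat.card (Sylow 11 K) ∈ Nat.divisors 125 := Nat.mem_divisors.2 ⟨h2, by norm_num⟩
    rw [show Nat.divisors 125 = {1, 5, 25, 125} from rfl] at hmem
    simp only [Finset.mem_insert, Finset.mem_singleton] at hmem
    have h1' : Nat.card (Sylow 11 K) = 1 := by
      rcases hmem with h | h | h | h
      · exact h
      all_goals (rw [h] at h1; exact absurd h1 (by decide))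
    haveI : Subsingleton (Sylow 11 K) := (Nat.card_eq_one_iff_unique.1 h1').1
    exact Sylow.normal_of_subsingleton P
  haveI : IsCyclic P := isCyclic_of_prime_card (p := 11) hP
  let θ : K →* MulAut P := MulAut.conjNormal
  have hAut : Nat.card (MulAut P) = 10 := by
    rw [IsCyclic.card_mulAut, hP]
    rfl
  have h5 : 5 ∣ Nat.card θ.ker := by
    have h1 := θ.ker.card_mul_index
    have h2 : θ.ker.index ∣ 10 := by
      rw [index_ker, ← hAut]; exact card_subgroup_dvd_card _
    have h3 : 275 ∣ Nat.card θ.ker * 10 := (h275.trans (h1 ▸ dvd_rfl)).trans (mul_dvd_mul_left _ h2)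
    rw [show (275 : ℕ) = 5 * 55 by norm_num, show Nat.card θ.ker * 10 = 5 * (Nat.card θ.ker * 2) by ring] at h3
    exact (Nat.Coprime.dvd_of_dvd_mul_right (by norm_num : Nat.Coprime 5 2)
      ((show (5 : ℕ) ∣ 55 by norm_num).trans (Nat.dvd_of_mul_dvd_mul_left (by norm_num) h3)))
  obtain ⟨y, hy⟩ := exists_prime_orderOf_dvd_card' (G := θ.ker) 5 h5
  obtain ⟨x, hx⟩ := exists_prime_orderOf_dvd_card' (G := (P : Subgroup K)) 11 (by rw [hP])
  have hc : (y : K) * x = x * y := by
    have := DFunLike.congr_fun (MonoidHom.mem_ker.1 y.2) x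
    have h' := congrArg Subtype.val this
    simp only [θ, MulAut.conjNormal_apply, MulAut.one_apply] at h'
    exact mul_inv_eq_iff_eq_mul.1 h'
  refine no_commute (x := e ((x : K) : D)) (y := e ((y : K) : D)) ?_ ?_ ?_
  · rw [MulEquiv.orderOf_eq, Subgroup.orderOf_coe, Subgroup.orderOf_coe, Subgroup.orderOf_coe, hx]
  · rw [MulEquiv.orderOf_eq, Subgroup.orderOf_coe, Subgroup.orderOf_coe, Subgroup.orderOf_coe, hy]
  · rw [← map_mul, ← map_mul]
    exact congrArg e (congrArg (fun w : K => ((w : D) : H)) hc.symm)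

end Cfsg.Agent.StdMcL.NoOdd
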