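import Cfsg.Agent.StdMcL.Transfer
import Cfsg.Agent.StdMcL.NoOdd
import Cfsg.Agent.S3334
import Cfsg.Agent.Invol.SEPairs
import Cfsg.Agent.Invol.ZStar
import Cfsg.Agent.FTCons.Basic

/-!
The normaliser of the odd part modulo that part is the McLaughlin group; it is the whole group as
otherwise it would be strongly embedded.
-/

set_option autoImplicit false
set_option maxHeartbeats 1000000
set_option linter.style.haveILetI false

namespace Cfsg.Agent.StdMcL

open Subgroup Equiv

variable {G : Type*} [Group G] [Finite G]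

/-- A cover carried along an isomorphism. -/
def covMap {A B : Type*} [Group A] [Group B] (V : McLLoc.Cov A) (e : A ≃* B) : McLLoc.Cov B where
  π := V.π.comp e.symm.toMonoidHom
  z := e V.z
  range_eq := by
    rw [← V.range_eq]
    ext p
    exact ⟨fun ⟨b, hb⟩ => ⟨e.symm b, hb⟩, fun ⟨a, ha⟩ => ⟨e a, by simpa using ha⟩⟩
  ker b := by
    rw [MonoidHom.comp_apply, V.ker]
    exact or_congr ⟨fun h => by simpa using congrArg e h, fun h => by simp [h]⟩
      ⟨fun h => by simpa using congrArg e h, fun h => by simp [h]⟩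
  z_sq := by rw [← map_mul, V.z_sq, map_one]
  z_ne h := V.z_ne (e.injective (h.trans (map_one e).symm))
  nonsplit L hL :=
    V.nonsplit (L.comap e.toMonoidHom) (by rw [index_comap_of_surjective _ e.surjective, hL])

namespace Base

variable {S : Base G} {g₀ : G}

/-- A simple group contains a second conjugate commuting with the involution. -/
theorem exists_pair [IsSimpleGroup G] (hG : ¬ IsMulCommutative G) (S : Base G) : ∃ g, S.Pair g := by
  by_contra hcon
  push Not at hcon
  have hord : orderOf S.z = 2 := orderOf_eq_prime (by rw [pow_two, S.z_sq]) S.z_ne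
  have hiso : Cfsg.IsIsolatedInvolution S.z := ⟨hord, fun g hc => by_contra fun hne =>
    hcon g ⟨hc.eq.symm, hne⟩⟩
  have he : Even (Nat.card G) := even_iff_two_dvd.2 (hord ▸ orderOf_dvd_natCard _)
  have hO := FTCons.oddCore_eq_bot_of_simple (G := G) he
  have hz : S.z ∈ center G := mem_center_iff.2 fun g => by
    have h := Invol.zstar hiso g
    rw [hO, mem_bot, mul_inv_eq_one, mul_inv_eq_iff_eq_mul] at h
    exact h.symm
  rcases (inferInstance : (center G).Normal).eq_bot_or_eq_top with h | h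
  · exact S.z_ne (mem_bot.1 (h ▸ hz))
  · exact hG ⟨⟨fun a b => (mem_center_iff.1 (h ▸ mem_top a) b).symm⟩⟩

theorem cent_le_N (O : OddPart S) : centralizer ({S.z} : Set G) ≤ normalizer (O.X : Set G) := fun g hg => by
  refine O.normalise ?_
  rw [mul_inv_eq_iff_eq_mul.2 (mem_centralizer_singleton_iff.1 hg)]

theorem normal_X (O : OddPart S) : (O.X.subgroupOf (normalizer (O.X : Set G))).Normal :=
  Subgroup.normal_subgroupOf_iff_le_normalizer le_normalizer |>.2 le_rfl

/-- The normaliser of the odd part modulo it. -/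
theorem quot_iso [IsSimpleGroup G] (hG : ¬ IsMulCommutative G) (h₀ : S.Pair g₀) (O : OddPart S) :
    ∃ f : normalizer (O.X : Set G) →* Spor.McL, Function.Surjective f ∧ ∀ n, f n = 1 ↔ (n : G) ∈ O.X := by
  classical
  set N := normalizer (O.X : Set G) with hN
  haveI := normal_X O
  let Q := N ⧸ O.X.subgroupOf N
  let q : N →* Q := QuotientGroup.mk' _
  have hq : ∀ n : N, q n = 1 ↔ (n : G) ∈ O.X := fun n => by
    rw [QuotientGroup.mk'_apply, QuotientGroup.eq_one_iff, mem_subgroupOf]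
  let zN : N := ⟨S.z, cent_le_N O (mem_centralizer_singleton_iff.2 rfl)⟩
  have hLN : S.L ≤ N := fun l hl => cent_le_N O (S.L_le hl)
  let r : S.L →* Q := q.comp (inclusion hLN)
  have hr : Function.Injective r := (injective_iff_map_eq_one r).2 fun l hl =>
    Subtype.ext (O.disjoint_L ((hq _).1 hl) l.2)
  have hrz : r S.cov.z = q zN := congrArg q (Subtype.ext S.cov_z)
  have hord : orderOf (q zN) = 2 := by
    rw [← hrz, orderOf_injective r hr, S.cov.orderOf_z]
  have hrange : r.range = centralizer ({q zN} : Set Q) := by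
    refine le_antisymm ?_ fun w hw => ?_
    · rintro _ ⟨l, rfl⟩
      rw [← hrz, mem_centralizer_singleton_iff, ← map_mul, ← map_mul, S.cov.z_comm l]
    obtain ⟨n, rfl⟩ := QuotientGroup.mk'_surjective _ w
    have hc : q n * q zN = q zN * q n := mem_centralizer_singleton_iff.1 hw
    have hmem : S.z * ((n : G) * S.z * (n : G)⁻¹) ∈ O.X := by
      have e : q (zN * (n * zN * n⁻¹)) = 1 := by
        rw [map_mul, map_mul, map_mul, hc, map_inv, mul_inv_cancel_right, ← map_mul,
          show zN * zN = 1 from Subtype.ext S.z_sq, map_one]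
      exact (hq _).1 e
    set x := S.z * ((n : G) * S.z * (n : G)⁻¹) with hx
    have hxz : Commute x S.z := S.K_comm (O.le_K hmem)
    have h1 : x = 1 := by
      have e1 : S.z * x = (n : G) * S.z * (n : G)⁻¹ := by rw [hx, ← mul_assoc, S.z_sq, one_mul]
      have e2 : x * x = 1 := by
        calc x * x = x * (S.z * S.z) * x := by rw [S.z_sq, mul_one]
          _ = (x * S.z) * (S.z * x) := by group
          _ = (S.z * x) * (S.z * x) := by rw [hxz.eq]
          _ = 1 := by rw [e1]; exact Pair.y_sq S n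
      have := O.pow_card hmem
      obtain ⟨k, hk⟩ := O.odd
      rwa [hk, pow_succ, pow_mul, pow_two, e2, one_pow, one_mul] at this
    have hnz : (n : G) * S.z = S.z * n := by
      rw [hx] at h1
      have h2 := eq_inv_of_mul_eq_one_right h1
      rw [S.z_inv] at h2
      exact mul_inv_eq_iff_eq_mul.1 h2
    obtain ⟨l, hl, hk⟩ := S.exists_LK hG h₀ hnz
    have hkN : ∀ {k : G}, k ∈ S.K → k ∈ N := fun hk => cent_le_N O (mem_centralizer_singleton_iff.2 (S.K_comm hk))
    rcases O.split _ hk with hX | hX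
    · exact ⟨⟨l, hl⟩, QuotientGroup.eq.2 (mem_subgroupOf.2 hX)⟩
    · refine ⟨⟨l * S.z, mul_mem hl S.z_L⟩, QuotientGroup.eq.2 (mem_subgroupOf.2 ?_)⟩
      show (l * S.z)⁻¹ * (n : G) ∈ O.X
      rw [mul_inv_rev, S.z_inv, mul_assoc, ← S.K_comm hk]
      exact hX
  have hcov : Cfsg.IsNonsplitDoubleCover (centralizer ({q zN} : Set Q)) (alternatingGroup (Fin 8)) :=
    (covMap S.cov ((MonoidHom.ofInjective hr).trans (MulEquiv.subgroupCongr hrange))).cover
  rcases Cfsg.Agent.S3334.result (q zN) hord hcov with hC | ⟨⟨e⟩⟩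
  · exfalso
    let gN : N := ⟨g₀, O.normalise h₀.1⟩
    obtain ⟨c, hc, o, ho, e⟩ : ∃ c ∈ centralizer ({q zN} : Set Q), ∃ o ∈ Cfsg.oddCore Q, o * c = q gN := by
      have hmem : q gN ∈ Cfsg.oddCore Q ⊔ centralizer ({q zN} : Set Q) := by rw [sup_comm, hC]; exact mem_top _
      rw [← SetLike.mem_coe, Subgroup.normal_mul] at hmem
      obtain ⟨o, ho, c, hc, e⟩ := Set.mem_mul.1 hmem
      exact ⟨c, hc, o, ho, e⟩
    have hy : q gN * q zN * (q gN)⁻¹ = r ⟨_, h₀.mem_L⟩ := by
      rw [← map_mul, ← map_inv, ← map_mul]; rfl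
    set w := q zN * r ⟨_, h₀.mem_L⟩ with hw
    have hz2 : q zN * q zN = 1 := by
      rw [← map_mul, show zN * zN = 1 from Subtype.ext S.z_sq, map_one]
    have hwO : w ∈ Cfsg.oddCore Q := by
      have ec : c * q zN = q zN * c := mem_centralizer_singleton_iff.1 hc
      rw [hw, ← hy, ← e, mul_inv_rev, show q zN * (o * c * q zN * (c⁻¹ * o⁻¹)) =
        q zN * o * (c * q zN * c⁻¹) * o⁻¹ by group, ec, mul_inv_cancel_right,
        show q zN * o * q zN * o⁻¹ = q zN * o * (q zN)⁻¹ * o⁻¹ by rw [inv_eq_of_mul_eq_one_right hz2]]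
      exact mul_mem ((inferInstance : (Cfsg.oddCore Q).Normal).conj_mem _ ho _) (inv_mem ho)
    have hy2 : r ⟨_, h₀.mem_L⟩ * r ⟨_, h₀.mem_L⟩ = 1 := by
      rw [← map_mul, show (⟨_, h₀.mem_L⟩ : S.L) * ⟨_, h₀.mem_L⟩ = 1 from Subtype.ext (Pair.y_sq S g₀), map_one]
    have hcy : r ⟨_, h₀.mem_L⟩ * q zN = q zN * r ⟨_, h₀.mem_L⟩ := by
      rw [← hrz, ← map_mul, ← map_mul, S.cov.z_comm]
    have hw2 : w ^ 2 = 1 := by
      rw [pow_two, hw, show q zN * r ⟨_, h₀.mem_L⟩ * (q zN * r ⟨_, h₀.mem_L⟩) =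
        q zN * (r ⟨_, h₀.mem_L⟩ * q zN) * r ⟨_, h₀.mem_L⟩ by group, hcy, ← mul_assoc, hz2, one_mul, hy2]
    have hw1 : w = 1 := by
      by_contra hne
      haveI : Fact (Nat.Prime 2) := ⟨Nat.prime_two⟩
      refine Core.not_dvd_card_pPrimeCore (p := 2) (G := Q) ?_
      have h2 := orderOf_dvd_natCard (⟨w, hwO⟩ : Cfsg.oddCore Q)
      rwa [Subgroup.orderOf_mk, orderOf_eq_prime hw2 hne] at h2
    rw [hw, ← hrz, ← map_mul, ← map_one r] at hw1
    have h3 := congrArg Subtype.val (eq_inv_of_mul_eq_one_right (hr hw1))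
    rw [Subgroup.coe_inv, S.cov_z, S.z_inv] at h3
    exact h₀.2 h3
  · refine ⟨e.toMonoidHom.comp q, e.surjective.comp (QuotientGroup.mk'_surjective _), fun n => ?_⟩
    rw [MonoidHom.comp_apply, MulEquiv.coe_toMonoidHom, EmbeddingLike.map_eq_one_iff, hq]

/-- The normaliser of the odd part is strongly embedded if proper. -/
theorem strongly_embedded [IsSimpleGroup G] (hG : ¬ IsMulCommutative G) (h₀ : S.Pair g₀) (O : OddPart S)
    (hne : normalizer (O.X : Set G) ≠ ⊤) :
    Cfsg.IsStronglyEmbedded (normalizer (O.X : Set G)) ∧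
      ∀ t ∈ normalizer (O.X : Set G), t * t = 1 → t ≠ 1 →
        ∃ n ∈ normalizer (O.X : Set G), n * S.z * n⁻¹ = t := by
  classical
  set N := normalizer (O.X : Set G) with hN
  have hCN := cent_le_N O
  have hall : ∀ t ∈ N, t * t = 1 → t ≠ 1 → ∃ n ∈ N, n * S.z * n⁻¹ = t := by
    intro t ht t2 t1
    haveI : Fact (Nat.Prime 2) := ⟨Nat.prime_two⟩
    set C := centralizer ({S.z} : Set G) with hC
    let tN : N := ⟨t, ht⟩
    have hp : IsPGroup 2 (zpowers tN) := IsPGroup.of_card (n := 1) (by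
      rw [Nat.card_zpowers, pow_one]
      exact orderOf_eq_prime (by rw [pow_two]; exact Subtype.ext t2) fun e => t1 (congrArg Subtype.val e))
    have hodd : ¬ 2 ∣ Nat.card (N ⧸ C.subgroupOf N) := fun h =>
      odd_index S (h.trans (by
        rw [← index_eq_card]
        exact Subgroup.relIndex_dvd_index_of_le hCN |>.trans dvd_rfl))
    obtain ⟨x, hx⟩ : (MulAction.fixedPoints (zpowers tN) (N ⧸ C.subgroupOf N)).Nonempty :=
      hp.nonempty_fixed_point_of_prime_not_dvd_card _ hodd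
    obtain ⟨n, rfl⟩ := QuotientGroup.mk_surjective x
    have h := hx ⟨tN, mem_zpowers _⟩
    have h' : (QuotientGroup.mk (tN * n) : N ⧸ C.subgroupOf N) = QuotientGroup.mk n := h
    have hj : (n : G)⁻¹ * t * n ∈ C := by
      have e := mem_subgroupOf.1 (QuotientGroup.eq.1 h'.symm)
      simp only [Subgroup.coe_mul, Subgroup.coe_inv, tN] at e
      rwa [← mul_assoc] at e
    obtain ⟨g, hg⟩ := S.inv_conj hG h₀ (mem_centralizer_singleton_iff.1 hj)
      (by rw [show (n : G)⁻¹ * t * n * ((n : G)⁻¹ * t * n) = (n : G)⁻¹ * (t * t) * n by group, t2]; group)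
      (fun e => t1 (by rw [show t = n * ((n : G)⁻¹ * t * n) * (n : G)⁻¹ by group, e]; group))
    refine ⟨n * g, mul_mem n.2 (O.normalise ?_), ?_⟩
    · rw [hg]; exact mem_centralizer_singleton_iff.1 hj
    · rw [show (n : G) * g * S.z * ((n : G) * g)⁻¹ = n * (g * S.z * g⁻¹) * (n : G)⁻¹ by group, hg]; group
  refine ⟨(Invol.se_iff N).2 ⟨hne, even_iff_two_dvd.2 ?_, fun t g ht htN hgt => ?_⟩, hall⟩
  · have hz : S.z ∈ N := hCN (mem_centralizer_singleton_iff.2 rfl)
    have := orderOf_dvd_natCard (⟨S.z, hz⟩ : N)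
    rwa [Subgroup.orderOf_mk, orderOf_eq_prime (p := 2) (by rw [pow_two, S.z_sq]) S.z_ne] at this
  · have t2 := Invol.mul_self_eq_one ht
    have t1 := Invol.ne_one ht
    obtain ⟨n, hn, en⟩ := hall t htN t2 t1
    obtain ⟨m, hm, em⟩ := hall _ hgt (by
      rw [show g⁻¹ * t * g * (g⁻¹ * t * g) = g⁻¹ * (t * t) * g by group, t2]; group)
      (fun e => t1 (by rw [show t = g * (g⁻¹ * t * g) * g⁻¹ by group, e]; group))
    have hc : n⁻¹ * g * m ∈ centralizer ({S.z} : Set G) := by
      refine mem_centralizer_singleton_iff.2 ?_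
      calc n⁻¹ * g * m * S.z = n⁻¹ * g * (m * S.z * m⁻¹) * m := by group
        _ = n⁻¹ * t * g * m := by rw [em]; group
        _ = S.z * (n⁻¹ * g * m) := by rw [← en]; group
    rw [show g = n * (n⁻¹ * g * m) * m⁻¹ by group]
    exact mul_mem (mul_mem hn (hCN hc)) (inv_mem hm)

theorem isoMcL [IsSimpleGroup G] (hG : ¬ IsMulCommutative G) (S : Base G) : Cfsg.Spor.IsoMcL G := by
  classical
  obtain ⟨g₀, h₀⟩ := exists_pair hG S
  obtain ⟨O⟩ := exists_oddPart h₀
  set N := normalizer (O.X : Set G) with hN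
  obtain ⟨f, hsurj, hker⟩ : ∃ f : N →* Spor.McL, Function.Surjective f ∧ ∀ n, f n = 1 ↔ (n : G) ∈ O.X :=
    quot_iso hG h₀ O
  by_cases htop : N = ⊤
  · have hbot : O.X = ⊥ := by
      rcases (normalizer_eq_top_iff.1 htop).eq_bot_or_eq_top with h | h
      · exact h
      · exact absurd (show S.z ∈ O.X by rw [h]; exact mem_top _) O.z_notMem
    have hinj : Function.Injective f := (injective_iff_map_eq_one f).2 fun n hn => by
      have h := (hker n).1 hn
      exact Subtype.ext (mem_bot.1 ((SetLike.ext_iff.1 hbot _).1 h))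
    exact ⟨((MulEquiv.subgroupCongr htop).trans Subgroup.topEquiv).symm.trans (MulEquiv.ofBijective f ⟨hinj, hsurj⟩)⟩
  exfalso
  obtain ⟨hse, hall⟩ := strongly_embedded hG h₀ O htop
  obtain ⟨u, hu2, huN⟩ : ∃ u : G, orderOf u = 2 ∧ u ∉ N := by
    by_contra hcon
    push Not at hcon
    obtain ⟨g, hg⟩ : ∃ g, g ∉ N := by
      by_contra h
      push Not at h
      exact htop (eq_top_iff.2 fun x _ => h x)
    have ht : orderOf S.z = 2 := orderOf_eq_prime (by rw [pow_two, S.z_sq]) S.z_ne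
    have hmem : g⁻¹ * S.z * g ∈ N := hcon _ (by
      have := Invol.orderOf_conj g⁻¹ S.z
      rw [inv_inv] at this
      rw [this, ht])
    exact hg ((Invol.se_iff N).1 hse |>.2.2 S.z g ht (hcon _ ht) hmem)
  have hz2 : orderOf S.z = 2 := orderOf_eq_prime (by rw [pow_two, S.z_sq]) S.z_ne
  have hzN : S.z ∈ N := cent_le_N O (mem_centralizer_singleton_iff.2 rfl)
  set D := N ⊓ N.map (MulAut.conj u).toMonoidHom with hD
  let zN : N := ⟨S.z, hzN⟩
  have hfz : orderOf (f zN) = 2 := by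
    refine orderOf_eq_prime (by rw [pow_two, ← map_mul, show zN * zN = 1 from Subtype.ext S.z_sq, map_one]) fun e => ?_
    exact O.z_notMem ((hker zN).1 e)
  refine NoOdd.no_odd_transitive (H := Spor.McL) ⟨MulEquiv.refl _⟩ ((D.subgroupOf N).map f) ?_ (f zN) hfz
    fun w => ?_
  · refine Odd.of_dvd_nat ?_ (card_map_dvd _ _)
    rw [Nat.card_congr (subgroupOfEquivOfLe inf_le_left).toEquiv]
    exact hse.2.2 u huN
  · obtain ⟨n, rfl⟩ := hsurj w
    have hmem : (n : G) * S.z * (n : G)⁻¹ ∈ N := mul_mem (mul_mem n.2 hzN) (inv_mem n.2)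
    obtain ⟨d, hd, hde⟩ := Invol.se_inter_transitive hse hu2 huN hz2 hzN
      (show orderOf ((n : G) * S.z * (n : G)⁻¹) = 2 by rw [Invol.orderOf_conj, hz2]) hmem
    have hdN : d ∈ N := (mem_inf.1 hd).1
    refine ⟨f ⟨d, hdN⟩, ⟨⟨d, hdN⟩, mem_subgroupOf.2 hd, rfl⟩, ?_⟩
    rw [← map_inv, ← map_mul, ← map_mul, ← map_inv, ← map_mul, ← map_mul]
    exact congrArg f (Subtype.ext hde)

end Base

end Cfsg.Agent.StdMcL
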