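import Cfsg.Agent.McLLoc.CoverPerm

/-!
Permutations of eight points: a quaternion group acted on by an element of order three, and its
presence around every involution.
-/

set_option autoImplicit false
set_option maxRecDepth 10000

open Equiv Equiv.Perm

namespace Cfsg.Agent.StdMcL

/-- Witnesses in the centraliser of `σ`: three elements of order three giving a four-group acted on. -/
def Wit (σ : Perm (Fin 8)) : Prop :=
  ∃ t t1 t2 : Perm (Fin 8), (t * t * t = 1 ∧ t * σ = σ * t) ∧ (t1 * t1 * t1 = 1 ∧ t1 * σ = σ * t1) ∧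
    (t2 * t2 * t2 = 1 ∧ t2 * σ = σ * t2) ∧
    ((t1⁻¹ * t2) * (t1⁻¹ * t2) = 1 ∧ (t1⁻¹ * t2).support.card = 4) ∧
    ((t1⁻¹ * t2) * (t * (t1⁻¹ * t2) * t⁻¹) * ((t1⁻¹ * t2) * (t * (t1⁻¹ * t2) * t⁻¹)) = 1 ∧
      ((t1⁻¹ * t2) * (t * (t1⁻¹ * t2) * t⁻¹)).support.card = 4) ∧
    t * (t * (t1⁻¹ * t2) * t⁻¹) * t⁻¹ = (t1⁻¹ * t2) * (t * (t1⁻¹ * t2) * t⁻¹)

theorem Wit.conj {σ : Perm (Fin 8)} (h : Wit σ) (g : Perm (Fin 8)) : Wit (g * σ * g⁻¹) := by
  obtain ⟨t, t1, t2, ⟨c, d⟩, ⟨c1, d1⟩, ⟨c2, d2⟩, ⟨a, a'⟩, ⟨b, b'⟩, r⟩ := h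
  have hm : ∀ x y : Perm (Fin 8), g * x * g⁻¹ * (g * y * g⁻¹) = g * (x * y) * g⁻¹ := fun x y => by group
  have hi : ∀ x : Perm (Fin 8), (g * x * g⁻¹)⁻¹ = g * x⁻¹ * g⁻¹ := fun x => by group
  have h1 : ∀ x : Perm (Fin 8), x = 1 → g * x * g⁻¹ = 1 := fun x e => by rw [e]; group
  refine ⟨g * t * g⁻¹, g * t1 * g⁻¹, g * t2 * g⁻¹, ⟨?_, ?_⟩, ⟨?_, ?_⟩, ⟨?_, ?_⟩, ⟨?_, ?_⟩, ⟨?_, ?_⟩, ?_⟩ <;>
    simp only [hi, hm, card_support_conj]
  exacts [h1 _ c, by rw [d], h1 _ c1, by rw [d1], h1 _ c2, by rw [d2], h1 _ a, a', h1 _ b, b', by rw [r]]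

/-- A three-cycle. -/
def cy (i j k : Fin 8) : Perm (Fin 8) := swap i j * swap j k

theorem wit_one : Wit (swap 6 7) :=
  ⟨cy 3 4 5, cy 3 4 5, cy 2 3 5, by decide +kernel⟩

theorem wit_two : Wit (swap 0 1 * swap 2 3) :=
  ⟨cy 5 6 7, cy 5 6 7, cy 4 5 7, by decide +kernel⟩

theorem wit_three : Wit (swap 0 1 * swap 2 3 * swap 4 5) :=
  ⟨cy 0 2 4 * cy 1 3 5, cy 0 2 4 * cy 1 3 5, cy 0 2 5 * cy 1 3 4, by decide +kernel⟩

theorem wit_four : Wit (swap 0 1 * swap 2 3 * swap 4 5 * swap 6 7) :=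
  ⟨cy 2 4 6 * cy 3 5 7, cy 2 4 6 * cy 3 5 7, cy 2 4 7 * cy 3 5 6, by decide +kernel⟩

theorem rep_facts : swap (6 : Fin 8) 7 * swap 6 7 = 1 ∧ (swap (6 : Fin 8) 7).support.card = 2 ∧
    swap (0 : Fin 8) 1 * swap 2 3 * (swap 0 1 * swap 2 3) = 1 ∧
      (swap (0 : Fin 8) 1 * swap 2 3).support.card = 4 ∧
    swap (0 : Fin 8) 1 * swap 2 3 * swap 4 5 * (swap 0 1 * swap 2 3 * swap 4 5) = 1 ∧
      (swap (0 : Fin 8) 1 * swap 2 3 * swap 4 5).support.card = 6 ∧
    swap (0 : Fin 8) 1 * swap 2 3 * swap 4 5 * swap 6 7 *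
        (swap 0 1 * swap 2 3 * swap 4 5 * swap 6 7) = 1 ∧
      (swap (0 : Fin 8) 1 * swap 2 3 * swap 4 5 * swap 6 7).support.card = 8 := by decide +kernel

/-- Every involution has witnesses. -/
theorem exists_wit {σ : Perm (Fin 8)} (h : σ * σ = 1) (h1 : σ ≠ 1) : Wit σ := by
  obtain ⟨k, hk1, hk4, -, hk, -⟩ := McLLoc.CoverPerm.invol_support h h1
  obtain ⟨a, a', b, b', c, c', d, d'⟩ := rep_facts
  have key : ∀ r : Perm (Fin 8), Wit r → r * r = 1 → r.support.card = 2 * k → Wit σ := fun r hr h2 hc => by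
    obtain ⟨g, hg⟩ := isConj_iff.1 (McLLoc.CoverPerm.invol_conj h2 h (hc.trans hk.symm))
    exact hg ▸ hr.conj g
  interval_cases k
  exacts [key _ wit_one a a', key _ wit_two b b', key _ wit_three c c', key _ wit_four d d']

/-- The conjugacy class in the alternating group of the involutions moving all points. -/
theorem free_conj {σ τ : Perm (Fin 8)} (h : σ * σ = 1) (hs : σ.support.card = 8) (h' : τ * τ = 1)
    (hs' : τ.support.card = 8) : ∃ g : Perm (Fin 8), sign g = 1 ∧ g * σ * g⁻¹ = τ := by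
  obtain ⟨g, hg⟩ := isConj_iff.1 (McLLoc.CoverPerm.invol_conj h h' (hs.trans hs'.symm))
  rcases Int.units_eq_one_or (sign g) with e | e
  · exact ⟨g, e, hg⟩
  have hne : σ 0 ≠ 0 := by
    have : (0 : Fin 8) ∈ σ.support := by
      rw [Finset.eq_univ_of_card σ.support (by rw [hs, Fintype.card_fin])]
      exact Finset.mem_univ _
    exact mem_support.1 this
  have hcomm : swap 0 (σ 0) * σ = σ * swap 0 (σ 0) := by
    have h0 : σ (σ 0) = 0 := by rw [← Perm.mul_apply, h, Perm.one_apply]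
    have e := mul_swap_eq_swap_mul σ 0 (σ 0)
    rw [h0, swap_comm (σ 0) 0] at e
    exact e.symm
  refine ⟨g * swap 0 (σ 0), by rw [map_mul, e, sign_swap hne.symm]; rfl, ?_⟩
  rw [mul_inv_rev, swap_inv, show g * swap 0 (σ 0) * σ * (swap 0 (σ 0) * g⁻¹) =
    g * (swap 0 (σ 0) * σ) * swap 0 (σ 0) * g⁻¹ by group, hcomm,
    show g * (σ * swap 0 (σ 0)) * swap 0 (σ 0) * g⁻¹ = g * σ * (swap 0 (σ 0) * swap 0 (σ 0)) * g⁻¹ by group,
    swap_mul_self, mul_one, hg]

/-- An element of order three commuting with a permutation with exactly two fixed points fixes both. -/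
theorem comm_swap {σ τ : Perm (Fin 8)} {p q : Fin 8} (hfix : ∀ r, σ r = r ↔ r = p ∨ r = q)
    (h3 : τ * τ * τ = 1) (hc : τ * σ = σ * τ) : τ * swap p q = swap p q * τ := by
  have hmap : ∀ r, r = p ∨ r = q → τ r = p ∨ τ r = q := fun r hr => (hfix _).1 (by
    rw [← Perm.mul_apply, ← hc, Perm.mul_apply, (hfix r).2 hr])
  have h3' : ∀ x, τ (τ (τ x)) = x := fun x => by
    rw [← Perm.mul_apply, ← Perm.mul_apply, h3, Perm.one_apply]
  have aux : ∀ a b : Fin 8, (∀ r, r = a ∨ r = b → τ r = a ∨ τ r = b) → τ a = a := by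
    intro a b hm
    rcases hm a (Or.inl rfl) with e | e
    · exact e
    rcases hm b (Or.inr rfl) with e' | e'
    · have := h3' a
      rw [e, e', e] at this
      rw [e, this]
    · exact (τ.injective (e.trans e'.symm)).symm ▸ e'
  have hp : τ p = p := aux p q hmap
  have hq : τ q = q := aux q p fun r hr => (hmap r hr.symm).symm
  rw [mul_swap_eq_swap_mul, hp, hq]

/-- The centraliser of a quaternion group with an element of order three on eight points. -/
theorem quat_cent {A B T Z W : Perm (Fin 8)} (hA : A * A = Z) (hB : B * B = Z)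
    (hAB : A * B * (A * B) = Z) (hZ2 : Z * Z = 1) (hZ : Z ≠ 1) (hT : T * T * T = 1)
    (hTA : T * A * T⁻¹ = B) (hTB : T * B * T⁻¹ = A * B ∨ T * B * T⁻¹ = A * B * Z)
    (hWA : W * A = A * W) (hWT : W * T = T * W) : W = 1 ∨ W = Z := by
  have hWB : W * B = B * W := by
    have hWT' : W * T⁻¹ = T⁻¹ * W := (show Commute W T from hWT).inv_right.eq
    rw [← hTA, ← mul_assoc, ← mul_assoc, hWT, mul_assoc T W A, hWA, ← mul_assoc, mul_assoc (T * A) W T⁻¹,
      hWT', ← mul_assoc]
  have zA : ∀ x, Z (A x) = A (Z x) := fun x => by rw [← hA]; rfl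
  have zB : ∀ x, Z (B x) = B (Z x) := fun x => by rw [← hB]; rfl
  have zZ : ∀ x, Z (Z x) = x := fun x => by rw [← Perm.mul_apply, hZ2, Perm.one_apply]
  have aA : ∀ x, A (A x) = Z x := fun x => by rw [← Perm.mul_apply, hA]
  have bB : ∀ x, B (B x) = Z x := fun x => by rw [← Perm.mul_apply, hB]
  have abAB : ∀ x, A (B (A (B x))) = Z x := fun x => by
    rw [← Perm.mul_apply A B, ← Perm.mul_apply A B, ← Perm.mul_apply (A * B), hAB]
  -- the three kinds of elements move a moved point out of its pair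
  have key : ∀ (u : Fin 8 → Fin 8), (∀ x, u (u x) = Z x) → (∀ x, Z (u x) = u (Z x)) →
      ∀ x, Z x ≠ x → u x ≠ x ∧ u x ≠ Z x := by
    intro u hu hzu x hx
    refine ⟨fun e => hx (by rw [← hu, e, e]), fun e => hx ?_⟩
    rw [← hu x, e, ← hzu, e, zZ]
  have kA := key A aA zA
  have kB := key B bB zB
  have kC := key (fun x => A (B x)) (fun x => abAB x) (fun x => by simp only [zA, zB])
  have zne : ∀ (u : Perm (Fin 8)) x, (∀ y, Z (u y) = u (Z y)) → Z x ≠ x → Z (u x) ≠ u x :=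
    fun u x hu hx e => hx (u.injective ((hu x).symm.trans e))
  -- the orbit of a moved point is everything
  obtain ⟨p, hp⟩ : ∃ p, Z p ≠ p := by
    by_contra h
    push Not at h
    exact hZ (Equiv.ext h)
  have orbit : ∀ x, Z x ≠ x → ∀ y, y ∈ [x, Z x, A x, A (Z x), B x, B (Z x), A (B x), A (B (Z x))] := by
    intro x hx y
    have hx' : Z (Z x) ≠ Z x := zne Z x (fun _ => rfl) hx
    have hBx := zne B x zB hx
    have e1 : ∀ w, Z w ≠ w → A w ≠ B w ∧ A w ≠ B (Z w) := fun w hw => by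
      refine ⟨fun e => ?_, fun e => ?_⟩ <;> have e' := congrArg A e <;> rw [aA] at e'
      · exact (kC w hw).2 e'.symm
      · exact (kC (Z w) (zne Z w (fun _ => rfl) hw)).1 e'.symm
    have hnd : [x, Z x, A x, A (Z x), B x, B (Z x), A (B x), A (B (Z x))].Nodup := by
      have a1 := kA x hx
      have a2 := kA (Z x) hx'
      have b1 := kB x hx
      have b2 := kB (Z x) hx'
      have c1 := kC x hx
      have c2 := kC (Z x) hx'
      simp only [zZ] at a2 b2 c2
      have d1 := e1 x hx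
      have d2 := e1 (Z x) hx'
      simp only [zZ] at d2
      have f1 := (kA (B x) hBx)
      simp only [zB] at f1
      have f2 := (kA (B (Z x)) (zne B _ zB hx'))
      simp only [zB, zZ] at f2
      have i1 : A x ≠ A (Z x) := fun e => hx (A.injective e).symm
      have i2 : B x ≠ B (Z x) := fun e => hx (B.injective e).symm
      have i3 : A (B x) ≠ A (B (Z x)) := fun e => i2 (A.injective e)
      have g1 : A x ≠ A (B x) ∧ A x ≠ A (B (Z x)) :=
        ⟨fun e => b1.1 (A.injective e).symm, fun e => b2.2 (A.injective e).symm⟩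
      have g2 : A (Z x) ≠ A (B x) ∧ A (Z x) ≠ A (B (Z x)) :=
        ⟨fun e => b1.2 (A.injective e).symm, fun e => b2.1 (A.injective e).symm⟩
      simp only [List.nodup_cons, List.mem_cons, List.not_mem_nil, or_false, not_or, not_false_eq_true,
        List.nodup_nil, and_true]
      exact ⟨⟨hx.symm, a1.1.symm, a2.2.symm, b1.1.symm, b2.2.symm, c1.1.symm, c2.2.symm⟩,
        ⟨a1.2.symm, a2.1.symm, b1.2.symm, b2.1.symm, c1.2.symm, c2.1.symm⟩,
        ⟨i1, d1.1, d1.2, g1.1, g1.2⟩, ⟨d2.2, d2.1, g2.1, g2.2⟩, ⟨i2, f1.1.symm, f2.2.symm⟩,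
        ⟨f1.2.symm, f2.1.symm⟩, i3⟩
    have := Finset.eq_univ_of_card (List.toFinset _) ((List.toFinset_card_of_nodup hnd).trans (by simp))
    have hy : y ∈ List.toFinset [x, Z x, A x, A (Z x), B x, B (Z x), A (B x), A (B (Z x))] :=
      this ▸ Finset.mem_univ y
    exact List.mem_toFinset.1 hy
  have free : ∀ y, Z y ≠ y := by
    intro y
    have := orbit p hp y
    simp only [List.mem_cons, List.not_mem_nil, or_false] at this
    rcases this with rfl | rfl | rfl | rfl | rfl | rfl | rfl | rfl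
    exacts [hp, zne Z p (fun _ => rfl) hp, zne A p zA hp, zne A _ zA (zne Z p (fun _ => rfl) hp),
      zne B p zB hp, zne B _ zB (zne Z p (fun _ => rfl) hp), zne A _ zA (zne B p zB hp),
      zne A _ zA (zne B _ zB (zne Z p (fun _ => rfl) hp))]
  obtain ⟨r, hr⟩ : ∃ r, T r = r := by
    haveI : Fact (Nat.Prime 3) := ⟨Nat.prime_three⟩
    exact Equiv.Perm.exists_fixed_point_of_prime (p := 3) (n := 1) (by rw [Fintype.card_fin]; norm_num)
      (by rw [pow_one, pow_succ, pow_two, hT])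
  have hr' : T⁻¹ r = r := inv_eq_iff_eq.2 hr.symm
  have tA : ∀ x, T x = x → T (A x) = B x := fun x hx => by
    rw [← hTA]; simp only [Perm.mul_apply, inv_eq_iff_eq.2 hx.symm]
  have hTZ : ∀ x, T (Z x) = Z (T x) := fun x => by
    have : T * Z * T⁻¹ = Z := by
      rw [← hA, show T * (A * A) * T⁻¹ = T * A * T⁻¹ * (T * A * T⁻¹) by group, hTA, hB, hA]
    have e := congrArg (fun g : Perm (Fin 8) => g (T x)) this
    simpa using e
  have cW : ∀ {g : Perm (Fin 8)}, W * g = g * W → ∀ x, W (g x) = g (W x) :=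
    fun e x => by rw [← Perm.mul_apply, e, Perm.mul_apply]
  have wA := cW hWA
  have wB := cW hWB
  have wZ : ∀ x, W (Z x) = Z (W x) := fun x => by rw [← aA, wA, wA, aA]
  have hfix : T (W r) = W r := by rw [← cW hWT, hr]
  have hWr := orbit r (free r) (W r)
  simp only [List.mem_cons, List.not_mem_nil, or_false] at hWr
  -- elements outside the centre are moved by the element of order three
  have noA : ∀ x, T x = x → W r ≠ A x := fun x hx e => by
    rw [e, tA x hx] at hfix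
    have := congrArg A hfix
    rw [aA] at this
    exact (kC x (free x)).2 this
  have noB : ∀ x, T x = x → W r ≠ B x := fun x hx e => by
    rw [e] at hfix
    have := congrArg A (T.injective ((tA x hx).trans hfix.symm))
    rw [aA] at this
    exact (kC x (free x)).2 this.symm
  have noC : ∀ x, T x = x → W r ≠ A (B x) := fun x hx e => by
    rw [e] at hfix
    rcases hTB with h | h <;>
      have h' := congrArg (fun g : Perm (Fin 8) => g x) h <;>
      simp only [Perm.mul_apply, inv_eq_iff_eq.2 hx.symm] at h'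
    · exact (kA (B x) (free _)).1 (T.injective (h'.trans hfix.symm)).symm
    · rw [← zB, ← zA] at h'
      have h2 : T (Z (B x)) = T (A (B x)) := by rw [hTZ, h', zZ, hfix]
      exact (kA (B x) (free _)).2 (T.injective h2).symm
  have hrz : T (Z r) = Z r := by rw [hTZ, hr]
  have hcase : W r = r ∨ W r = Z r := by
    rcases hWr with h | h | h | h | h | h | h | h
    exacts [Or.inl h, Or.inr h, absurd h (noA r hr), absurd h (noA _ hrz), absurd h (noB r hr),
      absurd h (noB _ hrz), absurd h (noC r hr), absurd h (noC _ hrz)]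
  have ext_orbit : ∀ g : Perm (Fin 8), W r = g r → (∀ x, g (A x) = A (g x)) → (∀ x, g (B x) = B (g x)) →
      (∀ x, g (Z x) = Z (g x)) → W = g := by
    intro g h gA gB gZ
    refine Equiv.ext fun y => ?_
    have := orbit r (free r) y
    simp only [List.mem_cons, List.not_mem_nil, or_false] at this
    rcases this with rfl | rfl | rfl | rfl | rfl | rfl | rfl | rfl <;>
      simp only [wA, wB, wZ, gA, gB, gZ, h]
  rcases hcase with h | h
  · exact Or.inl (ext_orbit 1 h (fun _ => rfl) (fun _ => rfl) fun _ => rfl)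
  · exact Or.inr (ext_orbit Z h zA zB fun _ => rfl)

end Cfsg.Agent.StdMcL
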