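import Cfsg.Agent.McLLoc.CoverEight
import Cfsg.Agent.S2119
import Cfsg.Agent.StdMcL.Perm
import Cfsg.Prelude.Def_Local
import Cfsg.Prelude.Def_CaseTheorems

/-!
A standard double cover of the alternating group of degree eight seen from its central involution.
-/

set_option autoImplicit false
set_option linter.style.haveILetI false

namespace Cfsg.Agent.StdMcL

open Subgroup Equiv Cfsg.Agent

/-- An involution centraliser acting on a component 2.A8, with what tight embedding gives. -/
structure Base (G : Type*) [Group G] where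
  /-- the component -/
  L : Subgroup G
  /-- the involution -/
  z : G
  /-- the cover -/
  cov : McLLoc.Cov L
  cov_z : (cov.z : G) = z
  /-- the action of the centraliser -/
  π : centralizer ({z} : Set G) →* Perm (Fin 8)
  L_le : L ≤ centralizer ({z} : Set G)
  π_L : ∀ l : L, π ⟨l, L_le l.2⟩ = cov.π l
  norm : ∀ g : G, g * z = z * g → ∀ l ∈ L, g * l * g⁻¹ ∈ L
  ker : ∀ g : centralizer ({z} : Set G), π g = 1 ↔ (g : G) ∈ centralizer (L : Set G)
  meet : ∀ k g : G, k ∈ centralizer (L : Set G) → g⁻¹ * k * g ∈ centralizer (L : Set G) →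
    k * k = 1 → k ≠ 1 → g * z = z * g

variable {G : Type*} [Group G]

namespace Base

variable (S : Base G)

/-- The centraliser of the component. -/
def K : Subgroup G := centralizer (S.L : Set G)

theorem z_L : S.z ∈ S.L := S.cov_z ▸ S.cov.z.2

theorem z_sq : S.z * S.z = 1 := by
  rw [← S.cov_z, ← Subgroup.coe_mul, S.cov.z_sq, Subgroup.coe_one]

theorem z_ne : S.z ≠ 1 := fun h => S.cov.z_ne (Subtype.ext (S.cov_z.trans h))

theorem z_inv : S.z⁻¹ = S.z := inv_eq_of_mul_eq_one_right S.z_sq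

theorem L_comm {l : G} (hl : l ∈ S.L) : l * S.z = S.z * l :=
  mem_centralizer_singleton_iff.1 (S.L_le hl)

theorem z_K : S.z ∈ S.K := mem_centralizer_iff.2 fun _ hl => S.L_comm hl

theorem K_comm {k : G} (hk : k ∈ S.K) : k * S.z = S.z * k :=
  (mem_centralizer_iff.1 hk S.z S.z_L).symm

theorem K_comm_L {k l : G} (hk : k ∈ S.K) (hl : l ∈ S.L) : k * l = l * k :=
  (mem_centralizer_iff.1 hk l hl).symm

theorem K_conj {k g : G} (hg : g * S.z = S.z * g) (hk : k ∈ S.K) : g * k * g⁻¹ ∈ S.K :=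
  mem_centralizer_iff.2 fun l hl => by
    have h' : g⁻¹ * l * g ∈ S.L := by
      have := S.norm g⁻¹ ((show Commute g S.z from hg).inv_left.eq) l hl
      rwa [inv_inv] at this
    calc l * (g * k * g⁻¹) = g * (g⁻¹ * l * g * k) * g⁻¹ := by group
      _ = g * k * g⁻¹ * l := by rw [← S.K_comm_L hk h']; group

/-- An element of the centraliser whose conjugate centralises the component fixes the involution. -/
theorem uniq {g : G} (h : g * S.z * g⁻¹ ∈ S.K) : g * S.z * g⁻¹ = S.z := by
  have := S.meet (g * S.z * g⁻¹) g h (by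
    rw [show g⁻¹ * (g * S.z * g⁻¹) * g = S.z by group]; exact S.z_K)
    (by rw [show g * S.z * g⁻¹ * (g * S.z * g⁻¹) = g * (S.z * S.z) * g⁻¹ by group, S.z_sq]; group)
    (fun e => S.z_ne (by simpa using conj_eq_one_iff.1 e))
  rw [this, mul_inv_cancel_right]

open Classical in
/-- The action as a function on the whole group. -/
noncomputable def P (h : G) : Perm (Fin 8) :=
  if hh : h ∈ centralizer ({S.z} : Set G) then S.π ⟨h, hh⟩ else 1

theorem P_eq {h : G} (hh : h * S.z = S.z * h) :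
    S.P h = S.π ⟨h, mem_centralizer_singleton_iff.2 hh⟩ := dif_pos _

theorem P_mul {a b : G} (ha : a * S.z = S.z * a) (hb : b * S.z = S.z * b) :
    S.P (a * b) = S.P a * S.P b := by
  rw [S.P_eq ha, S.P_eq hb, S.P_eq ((show Commute a S.z from ha).mul_left hb).eq, ← map_mul]; rfl

theorem P_one : S.P 1 = 1 := by rw [S.P_eq (by simp)]; exact map_one _

theorem P_inv {a : G} (ha : a * S.z = S.z * a) : S.P a⁻¹ = (S.P a)⁻¹ := by
  rw [S.P_eq ha, S.P_eq (show Commute a S.z from ha).inv_left.eq, ← map_inv]; rfl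

theorem P_pow {a : G} (ha : a * S.z = S.z * a) (n : ℕ) : S.P (a ^ n) = S.P a ^ n := by
  rw [S.P_eq ha, S.P_eq (Commute.pow_left ha n).eq, ← map_pow]; rfl

theorem P_L {l : G} (hl : l ∈ S.L) : S.P l = S.cov.π ⟨l, hl⟩ := by
  rw [S.P_eq (S.L_comm hl)]; exact S.π_L ⟨l, hl⟩

theorem P_eq_one {h : G} (hh : h * S.z = S.z * h) : S.P h = 1 ↔ h ∈ S.K := by
  rw [S.P_eq hh]; exact S.ker _

theorem P_K {k : G} (hk : k ∈ S.K) : S.P k = 1 := (S.P_eq_one (S.K_comm hk)).2 hk

theorem P_z : S.P S.z = 1 := S.P_K S.z_K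

/-- Two elements of the component with the same image. -/
theorem eq_or_mul_z {l m : G} (hl : l ∈ S.L) (hm : m ∈ S.L) (h : S.P l = S.P m) :
    l = m ∨ l = m * S.z := by
  rw [S.P_L hl, S.P_L hm] at h
  rcases (S.cov.ker ((⟨m, hm⟩ : S.L)⁻¹ * ⟨l, hl⟩)).1 (by rw [map_mul, map_inv, h, inv_mul_cancel]) with e | e
  · exact Or.inl (congrArg Subtype.val (inv_mul_eq_one.1 e)).symm
  · refine Or.inr ?_
    have := congrArg Subtype.val (inv_mul_eq_iff_eq_mul.1 e)
    rw [Subgroup.coe_mul, S.cov_z] at this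
    exact this

variable [Finite G]

theorem exists_lift {p : Perm (Fin 8)} (hp : Perm.sign p = 1) : ∃ l ∈ S.L, S.P l = p := by
  obtain ⟨l, hl⟩ := S.cov.exists_lift hp
  exact ⟨l, l.2, (S.P_L l.2).trans hl⟩

theorem exists_lift_three {p : Perm (Fin 8)} (hp : p * p * p = 1) :
    ∃ l ∈ S.L, l * l * l = 1 ∧ S.P l = p := by
  have hs : Perm.sign p = 1 := by
    have := congrArg Perm.sign hp
    rw [map_mul, map_mul, map_one, Int.units_mul_self, one_mul] at this
    exact this
  obtain ⟨l, hl, e⟩ := S.exists_lift hs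
  have h3 : l * l * l = 1 ∨ l * l * l = S.z := by
    have := S.eq_or_mul_z (mul_mem (mul_mem hl hl) hl) (one_mem _) (by
      rw [S.P_mul (S.L_comm (mul_mem hl hl)) (S.L_comm hl), S.P_mul (S.L_comm hl) (S.L_comm hl), e, hp, S.P_one])
    rwa [one_mul] at this
  rcases h3 with h | h
  · exact ⟨l, hl, h, e⟩
  refine ⟨l * S.z, mul_mem hl S.z_L, ?_, by rw [S.P_mul (S.L_comm hl) rfl, e, S.P_z, mul_one]⟩
  have c : Commute S.z l := (S.L_comm hl).symm
  calc l * S.z * (l * S.z) * (l * S.z) = l * (S.z * l) * S.z * l * S.z := by group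
    _ = l * l * (S.z * S.z) * l * S.z := by rw [c.eq]; group
    _ = l * l * l * S.z := by rw [S.z_sq, mul_one]
    _ = 1 := by rw [h, S.z_sq]

/-- Elements of order three of the component are centralised as soon as their images are. -/
theorem comm_three {x l : G} (hx : x * S.z = S.z * x) (hl : l ∈ S.L) (h3 : l * l * l = 1)
    (hc : S.P x * S.P l = S.P l * S.P x) : x * l = l * x := by
  have hm := S.norm x hx l hl
  have hi := (show Commute x S.z from hx).inv_left.eq
  have hP : S.P (x * l * x⁻¹) = S.P l := by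
    rw [S.P_mul ((show Commute x S.z from hx).mul_left (S.L_comm hl)).eq hi, S.P_mul hx (S.L_comm hl),
      S.P_inv hx, hc, mul_inv_cancel_right]
  rcases S.eq_or_mul_z hm hl hP with e | e
  · exact mul_inv_eq_iff_eq_mul.1 e
  exfalso
  have h' : x * l * x⁻¹ * (x * l * x⁻¹) * (x * l * x⁻¹) = 1 := by
    rw [show x * l * x⁻¹ * (x * l * x⁻¹) * (x * l * x⁻¹) = x * (l * l * l) * x⁻¹ by group, h3]; group
  rw [e] at h'
  have c : Commute S.z l := (S.L_comm hl).symm
  refine S.z_ne ?_
  calc S.z = l * l * l * S.z := by rw [h3, one_mul]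
    _ = l * l * (S.z * S.z) * l * S.z := by rw [S.z_sq, mul_one]
    _ = l * (S.z * l) * S.z * l * S.z := by rw [c.eq]; group
    _ = l * S.z * (l * S.z) * (l * S.z) := by group
    _ = 1 := h'

/-- A lift of a double transposition squares to the central involution. -/
theorem sq_four {l : G} (hl : l ∈ S.L) (h2 : S.P l * S.P l = 1) (h4 : (S.P l).support.card = 4) :
    l * l = S.z := by
  rw [S.P_L hl] at h2 h4
  rcases S.cov.lift_sq_cases (h := ⟨l, hl⟩) h2 with e | e
  · exfalso
    have hne : ∀ w : S.L, S.cov.π w = 1 → (⟨l, hl⟩ : S.L) ≠ w := fun w hw e' => by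
      rw [e', hw, Perm.support_one] at h4; simp at h4
    have := S.cov.support_eight e (hne 1 (map_one _)) (hne _ S.cov.π_z)
    omega
  · have := congrArg Subtype.val e
    rw [Subgroup.coe_mul, S.cov_z] at this
    exact this

theorem support_eight {l : G} (hl : l ∈ S.L) (h2 : l * l = 1) (h1 : l ≠ 1) (hz : l ≠ S.z) :
    (S.P l).support.card = 8 := by
  rw [S.P_L hl]
  exact S.cov.support_eight (Subtype.ext h2) (fun e => h1 (congrArg Subtype.val e))
    fun e => hz ((congrArg Subtype.val e).trans S.cov_z)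

theorem invol_conj {l m : G} (hl : l ∈ S.L) (l2 : l * l = 1) (l1 : l ≠ 1) (lz : l ≠ S.z)
    (hm : m ∈ S.L) (m2 : m * m = 1) (m1 : m ≠ 1) (mz : m ≠ S.z) : ∃ c ∈ S.L, c * l * c⁻¹ = m := by
  obtain ⟨c, hc⟩ := isConj_iff.1 (S.cov.isConj_invol (x := ⟨l, hl⟩) (y := ⟨m, hm⟩) (Subtype.ext l2)
    (fun e => l1 (congrArg Subtype.val e)) (fun e => lz ((congrArg Subtype.val e).trans S.cov_z))
    (Subtype.ext m2) (fun e => m1 (congrArg Subtype.val e))
    (fun e => mz ((congrArg Subtype.val e).trans S.cov_z)))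
  exact ⟨c, c.2, congrArg Subtype.val hc⟩

/-- The quaternion group with an element of order three attached to witnesses. -/
theorem quat {σ : Perm (Fin 8)} (hσ : Wit σ) :
    ∃ a t : G, a ∈ S.L ∧ t ∈ S.L ∧ t * t * t = 1 ∧ a * a = S.z ∧
      a * (t * a * t⁻¹) * (a * (t * a * t⁻¹)) = S.z ∧
      (t * (t * a * t⁻¹) * t⁻¹ = a * (t * a * t⁻¹) ∨
        t * (t * a * t⁻¹) * t⁻¹ = a * (t * a * t⁻¹) * S.z) ∧
      ∀ x : G, x * S.z = S.z * x →
        (∀ τ : Perm (Fin 8), τ * τ * τ = 1 → τ * σ = σ * τ → S.P x * τ = τ * S.P x) →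
        x * a = a * x ∧ x * t = t * x := by
  obtain ⟨τ, τ1, τ2, ⟨c, d⟩, ⟨c1, d1⟩, ⟨c2, d2⟩, ⟨a2, a4⟩, ⟨b2, b4⟩, r⟩ := hσ
  obtain ⟨t, ht, t3, et⟩ := S.exists_lift_three c
  obtain ⟨t₁, ht₁, t₁3, et₁⟩ := S.exists_lift_three c1
  obtain ⟨t₂, ht₂, t₂3, et₂⟩ := S.exists_lift_three c2
  have ha : t₁⁻¹ * t₂ ∈ S.L := mul_mem (inv_mem ht₁) ht₂
  have ea : S.P (t₁⁻¹ * t₂) = τ1⁻¹ * τ2 := by
    rw [S.P_mul (S.L_comm (inv_mem ht₁)) (S.L_comm ht₂), S.P_inv (S.L_comm ht₁), et₁, et₂]
  set a := t₁⁻¹ * t₂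
  have hb : t * a * t⁻¹ ∈ S.L := mul_mem (mul_mem ht ha) (inv_mem ht)
  have eb : S.P (t * a * t⁻¹) = τ * (τ1⁻¹ * τ2) * τ⁻¹ := by
    rw [S.P_mul (S.L_comm (mul_mem ht ha)) (S.L_comm (inv_mem ht)), S.P_mul (S.L_comm ht) (S.L_comm ha),
      S.P_inv (S.L_comm ht), et, ea]
  have eab : S.P (a * (t * a * t⁻¹)) = τ1⁻¹ * τ2 * (τ * (τ1⁻¹ * τ2) * τ⁻¹) := by
    rw [S.P_mul (S.L_comm ha) (S.L_comm hb), ea, eb]
  refine ⟨a, t, ha, ht, t3, S.sq_four ha (by rw [ea, a2]) (by rw [ea, a4]),
    S.sq_four (mul_mem ha hb) (by rw [eab, b2]) (by rw [eab, b4]),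
    S.eq_or_mul_z (mul_mem (mul_mem ht hb) (inv_mem ht)) (mul_mem ha hb) (by
      rw [S.P_mul (S.L_comm (mul_mem ht hb)) (S.L_comm (inv_mem ht)), S.P_mul (S.L_comm ht) (S.L_comm hb),
        S.P_inv (S.L_comm ht), et, eb, eab, r]), fun x hx hall => ?_⟩
  have h := S.comm_three hx ht t3 (by rw [et]; exact hall τ c d)
  have h1 := S.comm_three hx ht₁ t₁3 (by rw [et₁]; exact hall τ1 c1 d1)
  have h2 := S.comm_three hx ht₂ t₂3 (by rw [et₂]; exact hall τ2 c2 d2)
  exact ⟨((show Commute x t₁ from h1).inv_right.mul_right h2).eq, h⟩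

end Base

section Exists

variable [Finite G]

theorem center_of_card_two {L : Subgroup G} (h : Nat.card (center L) = 2) :
    ∃ z : L, z ∈ center L ∧ z ≠ 1 ∧ z * z = 1 ∧ ∀ x ∈ center L, x = 1 ∨ x = z := by
  obtain ⟨z, hz⟩ : ∃ z : center L, z ≠ 1 := by
    haveI : Nontrivial (center L) := Finite.one_lt_card_iff_nontrivial.1 (h ▸ one_lt_two)
    exact exists_ne 1
  have h2 : z * z = 1 := by
    rw [← pow_two, ← h]; exact pow_card_eq_one'
  refine ⟨z, z.2, fun e => hz (Subtype.ext e), congrArg Subtype.val h2, fun x hx => ?_⟩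
  obtain ⟨u, v, huv, hset⟩ := Nat.card_eq_two_iff.1 h
  have hall : ∀ w : center L, w = u ∨ w = v := fun w => by
    have : w ∈ ({u, v} : Set (center L)) := hset ▸ Set.mem_univ w
    simpa using this
  by_contra hcon
  push Not at hcon
  rcases hall ⟨x, hx⟩ with a | a <;> rcases hall z with b | b <;> rcases hall 1 with c | c
  all_goals first
    | exact hcon.2 (congrArg Subtype.val (a.trans b.symm))
    | exact hcon.1 (congrArg Subtype.val (a.trans c.symm))
    | exact hz (b.trans c.symm)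

/-- The data at the central involution of a standard 2.A8. -/
theorem exists_base (L : Subgroup G) (hL : Cfsg.IsStandardSubgroup L)
    (hLX : Cfsg.IsNonsplitDoubleCover ↥L ↥(alternatingGroup (Fin 8))) : ∃ S : Base G, S.L = L := by
  classical
  obtain ⟨⟨hperf, -⟩, ⟨-, htight⟩, -, hnorm⟩ := hL
  obtain ⟨hc2, ⟨e⟩, -⟩ := hLX
  obtain ⟨zL, hzc, hz1, hz2, hzall⟩ := center_of_card_two hc2
  have hzK : (zL : G) ∈ centralizer (L : Set G) := mem_centralizer_iff.2 fun l hl =>
    congrArg Subtype.val (mem_center_iff.1 hzc ⟨l, hl⟩)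
  -- the centraliser of the involution is the normaliser of the component
  have hmeet : ∀ k g : G, k ∈ centralizer (L : Set G) → g⁻¹ * k * g ∈ centralizer (L : Set G) →
      k * k = 1 → k ≠ 1 → g ∈ normalizer (L : Set G) := by
    intro k g hk hk' k2 k1
    rw [hnorm]
    by_contra hg
    have hodd := htight g hg
    have hmem : k ∈ centralizer (L : Set G) ⊓
        (centralizer (L : Set G)).map (MulAut.conj g).toMonoidHom :=
      mem_inf.2 ⟨hk, ⟨g⁻¹ * k * g, hk', by simp [mul_assoc]⟩⟩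
    have ho : orderOf (⟨k, hmem⟩ : ↥(_ ⊓ _ : Subgroup G)) = 2 := by
      rw [Subgroup.orderOf_mk]; exact orderOf_eq_prime (by rw [pow_two, k2]) k1
    exact Nat.not_even_iff_odd.2 hodd (even_iff_two_dvd.2 (ho ▸ orderOf_dvd_natCard _))
  have hz1' : (zL : G) ≠ 1 := fun h => hz1 (Subtype.ext h)
  have hz2' : (zL : G) * zL = 1 := congrArg Subtype.val hz2
  have hnormz : ∀ g : G, g ∈ normalizer (L : Set G) → g * zL = zL * g := by
    intro g hg
    have hm : g * zL * g⁻¹ ∈ L := (mem_normalizer_iff.1 hg _).1 zL.2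
    have hcen : (⟨_, hm⟩ : L) ∈ center L := mem_center_iff.2 fun m => Subtype.ext (by
      have hm' : g⁻¹ * m * g ∈ L := (mem_normalizer_iff.1 hg _).2 (by
        rw [show g * (g⁻¹ * (m : G) * g) * g⁻¹ = m by group]; exact m.2)
      have := congrArg Subtype.val (mem_center_iff.1 hzc ⟨_, hm'⟩)
      simp only [Subgroup.coe_mul] at this ⊢
      calc (m : G) * (g * zL * g⁻¹) = g * (g⁻¹ * m * g * zL) * g⁻¹ := by group
        _ = g * zL * g⁻¹ * m := by rw [this]; group)
    rcases hzall _ hcen with h | h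
    · exact absurd (conj_eq_one_iff.1 (congrArg Subtype.val h)) hz1'
    · exact mul_inv_eq_iff_eq_mul.1 (congrArg Subtype.val h)
  have hCN : centralizer ({(zL : G)} : Set G) ≤ normalizer (L : Set G) := fun g hg => by
    refine hmeet zL g hzK ?_ hz2' hz1'
    rw [mul_assoc, ← mem_centralizer_singleton_iff.1 hg, inv_mul_cancel_left]
    exact hzK
  set C := centralizer ({(zL : G)} : Set G)
  have hLC : L ≤ C := fun l hl => mem_centralizer_singleton_iff.2 (mem_centralizer_iff.1 hzK l hl)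
  -- the map to the alternating group
  let p : L →* alternatingGroup (Fin 8) := e.toMonoidHom.comp (QuotientGroup.mk' (center L))
  have hp : Function.Surjective p := e.surjective.comp (QuotientGroup.mk'_surjective _)
  have hpk : ∀ l, p l = 1 ↔ l ∈ center L := fun l => by
    show e (QuotientGroup.mk' (center L) l) = 1 ↔ _
    rw [EmbeddingLike.map_eq_one_iff, QuotientGroup.mk'_apply, QuotientGroup.eq_one_iff]
  have hbij := Cfsg.Agent.S2119.result 8 (by norm_num) (by norm_num)
  have hfaith : ∀ σ τ : Perm (Fin 8), (∀ l : L, σ * (p l : Perm (Fin 8)) * σ⁻¹ = τ * p l * τ⁻¹) → σ = τ := by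
    intro σ τ h
    refine hbij.1 (MulEquiv.ext fun x => Subtype.ext ?_)
    obtain ⟨l, rfl⟩ := hp x
    rw [MulAut.conjNormal_apply, MulAut.conjNormal_apply]
    exact h l
  have hnl : ∀ g : C, ∀ l : L, (g : G) * l * (g : G)⁻¹ ∈ L :=
    fun g l => (mem_normalizer_iff.1 (hCN g.2) _).1 l.2
  let α : C → (L ≃* L) := fun g =>
    { toFun := fun l => ⟨_, hnl g l⟩
      invFun := fun l => ⟨_, hnl g⁻¹ l⟩
      left_inv := fun l => Subtype.ext (by simp [mul_assoc])
      right_inv := fun l => Subtype.ext (by simp [mul_assoc])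
      map_mul' := fun a b => Subtype.ext (by simp [mul_assoc]) }
  have hex : ∀ g : C, ∃ σ : Perm (Fin 8), ∀ l : L, σ * (p l : Perm (Fin 8)) * σ⁻¹ = p (α g l) := by
    intro g
    let β : L ⧸ center L ≃* L ⧸ center L := QuotientGroup.congr (center L) (center L) (α g)
      (Subgroup.characteristic_iff_map_eq.1 inferInstance (α g))
    obtain ⟨σ, hσ⟩ := hbij.2 ((e.symm.trans β).trans e)
    refine ⟨σ, fun l => ?_⟩
    rw [← MulAut.conjNormal_apply, hσ]
    refine congrArg Subtype.val ?_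
    show e (β (e.symm (e (QuotientGroup.mk' _ l)))) = e (QuotientGroup.mk' _ (α g l))
    rw [MulEquiv.symm_apply_apply]
    rfl
  choose f hf using hex
  have hfm : ∀ a b : C, f (a * b) = f a * f b := fun a b => hfaith _ _ fun l => by
    rw [hf, show α (a * b) l = α a (α b l) from Subtype.ext (by simp [α, mul_assoc]), ← hf, ← hf]
    group
  let π : C →* Perm (Fin 8) := MonoidHom.mk' f hfm
  let q : L →* Perm (Fin 8) := (alternatingGroup (Fin 8)).subtype.comp p
  have hπL : ∀ l : L, π ⟨l, hLC l.2⟩ = q l := fun l => hfaith _ _ fun m => by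
    rw [show π ⟨l, hLC l.2⟩ = f ⟨l, hLC l.2⟩ from rfl, hf,
      show α ⟨l, hLC l.2⟩ m = l * m * l⁻¹ from Subtype.ext (by simp [α]), map_mul, map_mul, map_inv]
    rfl
  have hker : ∀ g : C, π g = 1 ↔ (g : G) ∈ centralizer (L : Set G) := by
    intro g
    constructor
    · intro hg
      have hq : ∀ l, α g l * l⁻¹ ∈ center L := fun l => (hpk _).1 (by
        have := hf g l
        rw [show f g = 1 from hg, one_mul, inv_one, mul_one] at this
        rw [map_mul, map_inv, show p (α g l) = p l from Subtype.ext this.symm, mul_inv_cancel])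
      let δ : L →* center L := MonoidHom.mk' (fun l => ⟨_, hq l⟩) fun a b => Subtype.ext (by
        show α g (a * b) * (a * b)⁻¹ = α g a * a⁻¹ * (α g b * b⁻¹)
        have hc := mem_center_iff.1 (hq b) a⁻¹
        rw [map_mul, mul_inv_rev]
        calc α g a * α g b * (b⁻¹ * a⁻¹) = α g a * ((α g b * b⁻¹) * a⁻¹) := by group
          _ = _ := by rw [← hc]; group)
      have hδ : δ.ker = ⊤ := by
        haveI := hperf
        refine top_le_iff.1 ((Group.IsPerfect.commutator_eq_top (G := L)).symm.le.trans ?_)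
        rw [commutator_def]
        refine Subgroup.commutator_le.2 fun a _ b _ => MonoidHom.mem_ker.2 ?_
        rw [map_commutatorElement, commutatorElement_eq_one_iff_mul_comm]
        exact Subtype.ext (mem_center_iff.1 (δ b).2 (δ a))
      refine mem_centralizer_iff.2 fun l hl => ?_
      have := congrArg (fun w : center L => ((w : L) : G))
        (MonoidHom.mem_ker.1 (hδ ▸ mem_top (⟨l, hl⟩ : L)))
      simp only [δ, MonoidHom.mk'_apply, Subgroup.coe_mul, Subgroup.coe_inv, OneMemClass.coe_one] at this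
      rw [show ((α g ⟨l, hl⟩ : L) : G) = (g : G) * l * (g : G)⁻¹ from rfl, mul_inv_eq_one] at this
      exact (mul_inv_eq_iff_eq_mul.1 this).symm
    · intro hg
      refine hfaith _ _ fun l => ?_
      rw [show π g = f g from rfl, hf, show α g l = l from Subtype.ext (by
        show (g : G) * l * (g : G)⁻¹ = l
        rw [mul_inv_eq_iff_eq_mul]; exact (mem_centralizer_iff.1 hg l l.2).symm)]
      group
  let cov : McLLoc.Cov L :=
    { π := q
      z := zL
      range_eq := by
        rw [MonoidHom.range_comp, MonoidHom.range_eq_top.2 hp, ← MonoidHom.range_eq_map, range_subtype]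
      ker := fun l => by
        show ((p l : alternatingGroup (Fin 8)) : Perm (Fin 8)) = 1 ↔ _
        rw [OneMemClass.coe_eq_one, hpk]
        exact ⟨hzall l, fun h => by rcases h with rfl | rfl <;> [exact one_mem _; exact hzc]⟩
      z_sq := hz2
      z_ne := hz1
      nonsplit := fun H hH => by
        haveI := hperf
        haveI := Subgroup.normal_of_index_eq_two hH
        have hcy : IsMulCommutative (L ⧸ H) := by
          haveI : Fact (Nat.Prime 2) := ⟨Nat.prime_two⟩
          haveI : IsCyclic (L ⧸ H) := isCyclic_of_prime_card (p := 2) hH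
          exact IsCyclic.isMulCommutative
        have htop : H = ⊤ := top_le_iff.1 ((Group.IsPerfect.commutator_eq_top (G := L)).symm.le.trans
          ((Subgroup.Normal.quotient_commutative_iff_commutator_le).1 hcy))
        rw [htop, index_top] at hH
        omega }
  exact ⟨{ L := L, z := zL, cov := cov, cov_z := rfl, π := π, L_le := hLC, π_L := hπL,
           norm := fun g hg l hl => hnl ⟨g, mem_centralizer_singleton_iff.2 hg⟩ ⟨l, hl⟩
           ker := hker
           meet := fun k g hk hk' k2 k1 => hnormz g (hmeet k g hk hk' k2 k1) }, rfl⟩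

end Exists

end Cfsg.Agent.StdMcL
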