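import Cfsg.Agent.StdMcL.Fusion

/-!
The odd part of the centraliser of the component and the Sylow subgroup of the centraliser of the
involution.
-/

set_option autoImplicit false
set_option linter.style.haveILetI false

namespace Cfsg.Agent.StdMcL

open Subgroup Equiv

variable {G : Type*} [Group G] [Finite G]

/-- The part of odd order of the centraliser of the component. -/
structure OddPart (S : Base G) where
  /-- the subgroup -/
  X : Subgroup G
  mem : ∀ x, x ∈ X ↔ x ∈ S.K ∧ Odd (orderOf x)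
  split : ∀ k ∈ S.K, k ∈ X ∨ k * S.z ∈ X
  odd : Odd (Nat.card X)

theorem exists_oddPart {S : Base G} {g : G} (h : S.Pair g) : Nonempty (OddPart S) := by
  classical
  haveI : Fact (Nat.Prime 2) := ⟨Nat.prime_two⟩
  haveI : Fintype S.K := Fintype.ofFinite _
  let zK : S.K := ⟨S.z, S.z_K⟩
  have hz2 : zK * zK = 1 := Subtype.ext S.z_sq
  have hz1 : zK ≠ 1 := fun e => S.z_ne (congrArg Subtype.val e)
  -- the Sylow subgroup has order two
  have hcard : ∃ m, Nat.card S.K = 2 * m ∧ Odd m := by
    obtain ⟨P⟩ : Nonempty (Sylow 2 S.K) := inferInstance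
    obtain ⟨n, hn⟩ := IsPGroup.iff_card.1 P.isPGroup'
    have hle : ∀ p : S.K, p ∈ (P : Subgroup S.K) → p = 1 ∨ p = zK := by
      intro p hp
      obtain ⟨j, hj⟩ := P.isPGroup' ⟨p, hp⟩
      have hj' : p ^ 2 ^ j = 1 := congrArg Subtype.val hj
      clear hj hp
      induction j generalizing p with
      | zero => exact Or.inl (by simpa using hj')
      | succ j ih =>
        have hsq : p * p = 1 := by
          rcases ih (p * p) (by rw [← pow_two, ← pow_mul, ← pow_succ']; exact hj') with e | e
          · exact e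
          · exact (h.K_no_root p.2 (congrArg Subtype.val e)).elim
        by_cases p1 : p = 1
        · exact Or.inl p1
        · exact Or.inr (Subtype.ext (h.K_invol p.2 (congrArg Subtype.val hsq)
            fun e => p1 (Subtype.ext e)))
    have h2dvd : 2 ∣ Nat.card S.K := by
      rw [show (2 : ℕ) = orderOf zK from (orderOf_eq_prime (by rw [pow_two, hz2]) hz1).symm]
      exact orderOf_dvd_natCard _
    have hP2 : Nat.card P ≤ 2 := by
      have : Set.ncard ((P : Subgroup S.K) : Set S.K) ≤ Set.ncard ({1, zK} : Set S.K) :=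
        Set.ncard_le_ncard (fun p hp => by simpa using hle p hp)
      rw [Set.ncard_pair (Ne.symm hz1)] at this
      exact this
    have hd := P.dvd_card_of_dvd_card h2dvd
    have hP : Nat.card P = 2 := le_antisymm hP2 (Nat.le_of_dvd Nat.card_pos hd)
    obtain ⟨m, hm⟩ := h2dvd
    refine ⟨m, hm, Nat.not_even_iff_odd.1 fun he => ?_⟩
    obtain ⟨r, hr⟩ := he
    have h4 : 2 ^ 2 ∣ Nat.card S.K := ⟨r, by rw [hm, hr]; ring⟩
    have := Nat.le_of_dvd Nat.card_pos (P.pow_dvd_card_of_pow_dvd_card h4)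
    omega
  obtain ⟨m, hm, hmodd⟩ := hcard
  let sg : S.K →* ℤˣ := Perm.sign.comp (MulAction.toPermHom S.K S.K)
  have hsz : sg zK = -1 := by
    have hinv : (MulAction.toPermHom S.K S.K zK) * (MulAction.toPermHom S.K S.K zK) = 1 := by
      rw [← map_mul, hz2, map_one]
    have hsupp : (MulAction.toPermHom S.K S.K zK).support = Finset.univ := by
      refine Finset.eq_univ_iff_forall.2 fun x => Perm.mem_support.2 fun e => hz1 ?_
      have e' : zK * x = x := e
      exact mul_eq_right.1 e'
    have hord : orderOf (MulAction.toPermHom S.K S.K zK) = 2 :=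
      orderOf_eq_prime (by rw [pow_two, hinv]) fun e => by
        rw [e, Perm.support_one] at hsupp
        exact Finset.univ_nonempty.ne_empty hsupp.symm
    obtain ⟨n, hn⟩ := Perm.cycleType_prime_order (σ := MulAction.toPermHom S.K S.K zK)
      (by rw [hord]; exact Nat.prime_two)
    rw [hord] at hn
    have hsum := Perm.sum_cycleType (MulAction.toPermHom S.K S.K zK)
    rw [hn, hsupp, Finset.card_univ, ← Nat.card_eq_fintype_card, hm, Multiset.sum_replicate,
      smul_eq_mul] at hsum
    show Perm.sign _ = -1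
    rw [Perm.sign_of_cycleType, hn, Multiset.sum_replicate, Multiset.card_replicate, smul_eq_mul]
    obtain ⟨r, hr⟩ := hmodd
    rw [show (n + 1) * 2 + (n + 1) = 2 * (3 * r + 1) + 1 by omega, pow_succ, pow_mul]
    simp
  have hsurj : Function.Surjective sg := fun u => by
    rcases Int.units_eq_one_or u with e | e
    exacts [⟨1, by rw [map_one, e]⟩, ⟨zK, by rw [hsz, e]⟩]
  have hidx : sg.ker.index = 2 := by
    rw [index_ker, MonoidHom.range_eq_top.2 hsurj, card_top]
    simp [Nat.card_eq_fintype_card]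
  have hker : Nat.card sg.ker = m := by
    have := sg.ker.card_mul_index
    rw [hidx, hm] at this
    omega
  have hXodd : Odd (Nat.card (sg.ker.map S.K.subtype)) := by
    rw [card_map_of_injective S.K.subtype_injective, hker]; exact hmodd
  refine ⟨⟨sg.ker.map S.K.subtype, fun x => ⟨fun hx => ?_, fun ⟨hxK, ho⟩ => ?_⟩, fun k hk => ?_, hXodd⟩⟩
  · refine ⟨map_subtype_le _ hx, Odd.of_dvd_nat hXodd ?_⟩
    have := orderOf_dvd_natCard (⟨x, hx⟩ : sg.ker.map S.K.subtype)
    rwa [Subgroup.orderOf_mk] at this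
  · refine ⟨⟨x, hxK⟩, MonoidHom.mem_ker.2 ?_, rfl⟩
    obtain ⟨r, hr⟩ := ho
    have e1 : sg ⟨x, hxK⟩ ^ orderOf x = 1 := by
      rw [← map_pow, show (⟨x, hxK⟩ : S.K) ^ orderOf x = 1 from Subtype.ext (pow_orderOf_eq_one x), map_one]
    rw [hr, pow_succ, pow_mul, pow_two, Int.units_mul_self, one_pow, one_mul] at e1
    exact e1
  · rcases Int.units_eq_one_or (sg ⟨k, hk⟩) with e | e
    · exact Or.inl ⟨⟨k, hk⟩, MonoidHom.mem_ker.2 e, rfl⟩
    · exact Or.inr ⟨⟨k, hk⟩ * zK, MonoidHom.mem_ker.2 (by rw [map_mul, e, hsz]; rfl), rfl⟩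

namespace OddPart

variable {S : Base G} (O : OddPart S)

theorem le_K : O.X ≤ S.K := fun _ hx => ((O.mem _).1 hx).1

theorem pow_card {x : G} (hx : x ∈ O.X) : x ^ Nat.card O.X = 1 :=
  congrArg Subtype.val (pow_card_eq_one' (x := (⟨x, hx⟩ : O.X)))

theorem z_notMem : S.z ∉ O.X := fun h => by
  have e := O.pow_card h
  obtain ⟨r, hr⟩ := O.odd
  rw [hr, pow_succ, pow_mul, pow_two, S.z_sq, one_pow, one_mul] at e
  exact S.z_ne e

theorem disjoint_L {x : G} (hx : x ∈ O.X) (hl : x ∈ S.L) : x = 1 := by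
  rcases (S.cov.ker ⟨x, hl⟩).1 (by rw [← S.P_L hl, S.P_K (O.le_K hx)]) with e | e
  · exact congrArg Subtype.val e
  · exact absurd (((congrArg Subtype.val e).trans S.cov_z) ▸ hx) O.z_notMem

/-- The odd part is normalised by whatever moves the involution to a commuting conjugate. -/
theorem normalise {g : G} (hg : g * S.z * g⁻¹ * S.z = S.z * (g * S.z * g⁻¹)) :
    g ∈ normalizer (O.X : Set G) := by
  have hsub : ∀ x ∈ O.X, g⁻¹ * x * g ∈ O.X := by
    intro x hx
    have hord : Odd (orderOf (g⁻¹ * x * g)) := by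
      rw [show g⁻¹ * x * g = MulAut.conj g⁻¹ x by simp, MulEquiv.orderOf_eq]
      exact ((O.mem x).1 hx).2
    refine (O.mem _).2 ⟨?_, hord⟩
    by_cases hne : g * S.z * g⁻¹ = S.z
    · have hgz : g⁻¹ * S.z = S.z * g⁻¹ :=
        ((show Commute g S.z from mul_inv_eq_iff_eq_mul.1 hne)).inv_left.eq
      simpa using S.K_conj hgz (O.le_K hx)
    have hP : S.Pair g := ⟨hg, hne⟩
    have hxy := hP.K_comm_y (O.le_K hx)
    rcases hP.core'.2 x (O.le_K hx) hxy with e | e
    · exact (S.P_eq_one (Base.Q_comm hxy)).1 e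
    exfalso
    have hc : ∀ n, S.Q g (x ^ n) = S.Q g x ^ n := by
      intro n
      induction n with
      | zero => rw [pow_zero, pow_zero, Base.Q_one]
      | succ n ih => rw [pow_succ, pow_succ, Base.Q_mul (Commute.pow_left hxy n).eq hxy, ih]
    have e1 := hc (Nat.card O.X)
    obtain ⟨r, hr⟩ := O.odd
    rw [O.pow_card hx, Base.Q_one, e, hr, pow_succ, pow_mul, pow_two,
      ← Base.Q_mul hP.z_comm hP.z_comm, S.z_sq, Base.Q_one, one_pow, one_mul] at e1
    exact hP.Q_z_ne e1.symm
  rw [mem_normalizer_iff]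
  have hsurj : Function.Surjective (fun x : O.X => (⟨_, hsub x x.2⟩ : O.X)) :=
    Finite.surjective_of_injective fun a b e =>
      Subtype.ext (by simpa using congrArg Subtype.val e)
  intro k
  constructor
  · intro hk
    obtain ⟨w, hw⟩ := hsurj ⟨k, hk⟩
    have hw' : g⁻¹ * (w : G) * g = k := congrArg Subtype.val hw
    rw [show g * k * g⁻¹ = w by rw [← hw']; group]
    exact w.2
  · intro hk
    rw [show k = g⁻¹ * (g * k * g⁻¹) * g by group]
    exact hsub _ hk

end OddPart

namespace Base

variable {S : Base G}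

/-- The conjugates of an element of the component in the component are paired off by the involution. -/
theorem class_even {g : G} (h : S.Pair g) :
    2 ∣ (centralizer ({(⟨_, h.mem_L⟩ : S.L)} : Set S.L)).index := by
  classical
  haveI : Fintype S.L := Fintype.ofFinite _
  set y : S.L := ⟨_, h.mem_L⟩ with hy
  have horb : (centralizer ({y} : Set S.L)).index = (Finset.univ.filter fun x => IsConj y x).card := by
    have hstab : MulAction.stabilizer (ConjAct S.L) y =
        (centralizer ({y} : Set S.L)).comap (ConjAct.ofConjAct (G := S.L)).toMonoidHom := by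
      ext c
      rw [MulAction.mem_stabilizer_iff, ConjAct.smul_def, mem_comap, mem_centralizer_singleton_iff]
      exact mul_inv_eq_iff_eq_mul
    have h1 := MulAction.index_stabilizer (ConjAct S.L) y
    rw [hstab, index_comap_of_surjective _ (ConjAct.ofConjAct (G := S.L)).surjective] at h1
    rw [h1, Set.ncard_eq_toFinset_card']
    congr 1
    ext x
    simp only [Set.mem_toFinset, Finset.mem_filter, Finset.mem_univ, true_and,
      ConjAct.mem_orbit_conjAct, isConj_comm]
  rw [horb]
  have hmul : ∀ x : S.L, IsConj y x → IsConj y (x * S.cov.z) := by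
    intro x hx
    have y2 : y * y = 1 := Subtype.ext (Pair.y_sq S g)
    have y1 : y ≠ 1 := fun e => y_ne S g (congrArg Subtype.val e)
    have yz : y ≠ S.cov.z := fun e => h.2 ((congrArg Subtype.val e).trans S.cov_z)
    obtain ⟨c, hc⟩ := isConj_iff.1 hx
    have x2 : x * x = 1 := by
      rw [← hc, show c * y * c⁻¹ * (c * y * c⁻¹) = c * (y * y) * c⁻¹ by group, y2]; group
    refine S.cov.isConj_invol y2 y1 yz
      (by rw [show x * S.cov.z * (x * S.cov.z) = x * (S.cov.z * x) * S.cov.z by group, ← S.cov.z_comm,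
        show x * (x * S.cov.z) * S.cov.z = x * x * (S.cov.z * S.cov.z) by group, x2, S.cov.z_sq, one_mul])
      (fun e => ?_) (fun e => ?_)
    · have hx' : x = S.cov.z := by
        rw [eq_inv_of_mul_eq_one_left e, inv_eq_of_mul_eq_one_right S.cov.z_sq]
      refine yz ?_
      calc y = c⁻¹ * (c * y * c⁻¹) * c := by group
        _ = c⁻¹ * (S.cov.z * c) := by rw [hc, hx', mul_assoc]
        _ = S.cov.z := by rw [← S.cov.z_comm, inv_mul_cancel_left]
    · have hx' : x = 1 := mul_eq_right.1 e
      exact y1 (conj_eq_one_iff.1 (hc.trans hx'))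
  refine (CharP.cast_eq_zero_iff (ZMod 2) 2 _).1 ?_
  rw [← nsmul_one, ← Finset.sum_const]
  refine Finset.sum_involution (fun x _ => x * S.cov.z) (fun _ _ => rfl)
    (fun x _ _ e => S.cov.z_ne (mul_eq_left.1 e)) (fun x hx => ?_) (fun x _ => ?_)
  · simp only [Finset.mem_filter, Finset.mem_univ, true_and] at hx ⊢
    exact hmul x hx
  · rw [mul_assoc, S.cov.z_sq, mul_one]

/-- The centraliser of the involution has odd index. -/
theorem odd_index (S : Base G) : ¬ 2 ∣ (centralizer ({S.z} : Set G)).index := by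
  classical
  haveI : Fact (Nat.Prime 2) := ⟨Nat.prime_two⟩
  intro hdvd
  set M := centralizer ({S.z} : Set G) with hM
  obtain ⟨Q⟩ : Nonempty (Sylow 2 S.L) := inferInstance
  obtain ⟨P, hP⟩ := (Q.isPGroup'.map (Subgroup.inclusion S.L_le)).exists_le_sylow
  set P0 : Subgroup G := (P : Subgroup M).map M.subtype with hP0
  obtain ⟨n, hn⟩ := IsPGroup.iff_card.1 P.isPGroup'
  have hn0 : Nat.card P0 = 2 ^ n := by
    rw [hP0, Subgroup.card_map_of_injective M.subtype_injective, hn]
  have hG : 2 ^ (n + 1) ∣ Nat.card G := by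
    rw [← M.card_mul_index, pow_succ]
    exact mul_dvd_mul (hn ▸ Subgroup.card_subgroup_dvd_card (P : Subgroup M)) hdvd
  obtain ⟨g, hg, hgM⟩ : ∃ g ∈ normalizer (P0 : Set G), g ∉ M := by
    by_contra hcon
    push Not at hcon
    have h1 := Sylow.prime_dvd_card_quotient_normalizer hG hn0
    have h2 := Subgroup.card_eq_card_quotient_mul_card_subgroup
      (P0.comap (normalizer (P0 : Set G)).subtype)
    have h3 : Nat.card (P0.comap (normalizer (P0 : Set G)).subtype) = 2 ^ n := by
      rw [← hn0]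
      exact Nat.card_congr (Subgroup.subgroupOfEquivOfLe le_normalizer).toEquiv
    rw [h3] at h2
    have h4 : 2 ^ (n + 1) ∣ Nat.card M := by
      refine dvd_trans ?_ (Subgroup.card_dvd_of_le hcon)
      rw [h2, pow_succ']
      exact mul_dvd_mul_right h1 _
    have h5 := P.pow_dvd_card_of_pow_dvd_card h4
    rw [hn, Nat.pow_dvd_pow_iff_le_right (by norm_num)] at h5
    omega
  have hsub : ∀ p ∈ P0, p * S.z = S.z * p := by
    rintro _ ⟨p, -, rfl⟩
    exact mem_centralizer_singleton_iff.1 p.2
  have hzP : S.z ∈ P0 := by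
    let zM : M := ⟨S.z, mem_centralizer_singleton_iff.2 rfl⟩
    have hnorm : (zpowers zM).Normal := ⟨fun k hk b => by
      obtain ⟨i, rfl⟩ := mem_zpowers_iff.1 hk
      have hc : Commute b zM := Subtype.ext (mem_centralizer_singleton_iff.1 b.2)
      rw [(hc.zpow_right i).eq, mul_inv_cancel_right]
      exact zpow_mem (mem_zpowers zM) i⟩
    have hz : IsPGroup 2 (zpowers zM) :=
      IsPGroup.of_card (n := 1) (by
        rw [Nat.card_zpowers, orderOf_eq_prime (p := 2) (by rw [pow_two]; exact Subtype.ext S.z_sq)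
          fun e => S.z_ne (congrArg Subtype.val e), pow_one])
    have h := P.3 (P.isPGroup'.to_sup_of_normal_right hz) le_sup_left
    exact ⟨zM, h.le (mem_sup_right (mem_zpowers _)), rfl⟩
  have hyP : g * S.z * g⁻¹ ∈ P0 := (mem_normalizer_iff.1 hg _).1 hzP
  have hycomm : ∀ p ∈ P0, g * S.z * g⁻¹ * p = p * (g * S.z * g⁻¹) := fun p hp' => by
    have h1 : g⁻¹ * p * g ∈ P0 := (mem_normalizer_iff.1 hg _).2 (by
      rwa [show g * (g⁻¹ * p * g) * g⁻¹ = p by group])
    calc g * S.z * g⁻¹ * p = g * (S.z * (g⁻¹ * p * g)) * g⁻¹ := by group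
      _ = p * (g * S.z * g⁻¹) := by rw [← hsub _ h1]; group
  have hpair : S.Pair g := ⟨hsub _ hyP, fun e => hgM (mem_centralizer_singleton_iff.2
    (mul_inv_eq_iff_eq_mul.1 e))⟩
  have hle : (Q : Subgroup S.L) ≤ centralizer ({(⟨_, hpair.mem_L⟩ : S.L)} : Set S.L) := fun q hq =>
    mem_centralizer_singleton_iff.2 (Subtype.ext
      (hycomm _ ⟨Subgroup.inclusion S.L_le q, hP ⟨q, hq, rfl⟩, rfl⟩).symm)
  exact Q.not_dvd_index ((class_even hpair).trans (Subgroup.index_dvd_of_le hle))

end Base

end Cfsg.Agent.StdMcL
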