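import Cfsg.Agent.StdMcL.Base

/-!
Commuting conjugates of the involution lie in the component, and the centraliser of the component has a
single involution and no element squaring to it.
-/

set_option autoImplicit false

namespace Cfsg.Agent.StdMcL

open Subgroup Equiv

variable {G : Type*} [Group G]

/-- The conjugate of the involution by `g` is another involution commuting with it. -/
def Base.Pair (S : Base G) (g : G) : Prop :=
  g * S.z * g⁻¹ * S.z = S.z * (g * S.z * g⁻¹) ∧ g * S.z * g⁻¹ ≠ S.z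

namespace Base

variable {S : Base G} {g : G}

theorem Pair.symm (h : S.Pair g) : S.Pair g⁻¹ := by
  obtain ⟨h1, h2⟩ := h
  rw [Pair, inv_inv]
  constructor
  · calc g⁻¹ * S.z * g * S.z = g⁻¹ * (S.z * (g * S.z * g⁻¹)) * g := by group
      _ = g⁻¹ * (g * S.z * g⁻¹ * S.z) * g := by rw [h1]
      _ = S.z * (g⁻¹ * S.z * g) := by group
  · intro e
    refine h2 ?_
    nth_rw 1 [← e]
    group

/-- The action on the other component. -/
noncomputable def Q (S : Base G) (g h : G) : Perm (Fin 8) := S.P (g⁻¹ * h * g)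

theorem Q_comm {h : G} (hh : h * (g * S.z * g⁻¹) = g * S.z * g⁻¹ * h) :
    g⁻¹ * h * g * S.z = S.z * (g⁻¹ * h * g) := by
  calc g⁻¹ * h * g * S.z = g⁻¹ * (h * (g * S.z * g⁻¹)) * g := by group
    _ = g⁻¹ * (g * S.z * g⁻¹ * h) * g := by rw [hh]
    _ = S.z * (g⁻¹ * h * g) := by group

theorem Q_mul {a b : G} (ha : a * (g * S.z * g⁻¹) = g * S.z * g⁻¹ * a)
    (hb : b * (g * S.z * g⁻¹) = g * S.z * g⁻¹ * b) : S.Q g (a * b) = S.Q g a * S.Q g b := by
  rw [Q, Q, Q, ← S.P_mul (Q_comm ha) (Q_comm hb)]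
  congr 1
  group

theorem Q_inv {a : G} (ha : a * (g * S.z * g⁻¹) = g * S.z * g⁻¹ * a) :
    S.Q g a⁻¹ = (S.Q g a)⁻¹ := by
  rw [Q, Q, ← S.P_inv (Q_comm ha)]
  congr 1
  group

theorem Q_one : S.Q g 1 = 1 := by rw [Q, mul_one, inv_mul_cancel, S.P_one]

theorem Pair.z_comm (h : S.Pair g) : S.z * (g * S.z * g⁻¹) = g * S.z * g⁻¹ * S.z := h.1.symm

theorem Pair.Q_z_ne (h : S.Pair g) : S.Q g S.z ≠ 1 := by
  intro e
  have hK := (S.P_eq_one (Q_comm h.z_comm)).1 e
  have hu := S.uniq (g := g⁻¹) (by rwa [inv_inv])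
  exact h.symm.2 hu

theorem Pair.y_sq (S : Base G) (g : G) : g * S.z * g⁻¹ * (g * S.z * g⁻¹) = 1 := by
  rw [show g * S.z * g⁻¹ * (g * S.z * g⁻¹) = g * (S.z * S.z) * g⁻¹ by group, S.z_sq]; group

theorem y_ne (S : Base G) (g : G) : g * S.z * g⁻¹ ≠ 1 := fun e => S.z_ne (conj_eq_one_iff.1 e)

theorem Pair.P_y (h : S.Pair g) :
    S.P (g * S.z * g⁻¹) * S.P (g * S.z * g⁻¹) = 1 ∧ S.P (g * S.z * g⁻¹) ≠ 1 := by
  refine ⟨by rw [← S.P_mul h.1 h.1, Pair.y_sq, S.P_one], fun e => h.2 (S.uniq ((S.P_eq_one h.1).1 e))⟩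

variable [Finite G]

/-- What the quaternion group in the centraliser of the conjugate gives in the other component. -/
theorem Pair.core (h : S.Pair g) {σ : Perm (Fin 8)} (hW : Wit σ)
    (hy : ∀ τ : Perm (Fin 8), τ * τ * τ = 1 → τ * σ = σ * τ →
      S.P (g * S.z * g⁻¹) * τ = τ * S.P (g * S.z * g⁻¹)) :
    Perm.sign (S.Q g S.z) = 1 ∧ ∀ x : G, x * S.z = S.z * x →
      x * (g * S.z * g⁻¹) = g * S.z * g⁻¹ * x →
      (∀ τ : Perm (Fin 8), τ * τ * τ = 1 → τ * σ = σ * τ → S.P x * τ = τ * S.P x) →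
      S.Q g x = 1 ∨ S.Q g x = S.Q g S.z := by
  obtain ⟨a, t, ha, ht, t3, a2, ab2, tb, hall⟩ := S.quat hW
  set y := g * S.z * g⁻¹ with hydef
  obtain ⟨ya, yt⟩ := hall y h.1 hy
  have ca : a * y = y * a := ya.symm
  have ct : t * y = y * t := yt.symm
  have cti : t⁻¹ * y = y * t⁻¹ := (show Commute t y from ct).inv_left.eq
  have cta : t * a * y = y * (t * a) := ((show Commute t y from ct).mul_left ca).eq
  have cb : t * a * t⁻¹ * y = y * (t * a * t⁻¹) := ((show Commute (t * a) y from cta).mul_left cti).eq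
  have cz : S.z * y = y * S.z := h.z_comm
  have cab : a * (t * a * t⁻¹) * y = y * (a * (t * a * t⁻¹)) := ((show Commute a y from ca).mul_left cb).eq
  have eZ : S.Q g a * S.Q g a = S.Q g S.z := by rw [← Q_mul ca ca, a2]
  refine ⟨by rw [← eZ, map_mul, Int.units_mul_self], fun x hx hxy hxσ => ?_⟩
  obtain ⟨xa, xt⟩ := hall x hx hxσ
  have eB : S.Q g (t * a * t⁻¹) = S.Q g t * S.Q g a * (S.Q g t)⁻¹ := by
    rw [Q_mul cta cti, Q_mul ct ca, Q_inv ct]
  have eTB : S.Q g (t * (t * a * t⁻¹) * t⁻¹) = S.Q g t * S.Q g (t * a * t⁻¹) * (S.Q g t)⁻¹ := by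
    rw [Q_mul ((show Commute t y from ct).mul_left cb).eq cti, Q_mul ct cb, Q_inv ct]
  refine quat_cent (A := S.Q g a) (B := S.Q g (t * a * t⁻¹)) (T := S.Q g t) eZ ?_ ?_ ?_ h.Q_z_ne ?_
    eB.symm ?_ ?_ ?_
  · rw [← Q_mul cb cb, show t * a * t⁻¹ * (t * a * t⁻¹) = t * (a * a) * t⁻¹ by group, a2,
      S.L_comm ht, mul_inv_cancel_right]
  · rw [← Q_mul ca cb, ← Q_mul cab cab, ab2]
  · rw [← Q_mul cz cz, S.z_sq, Q_one]
  · rw [← Q_mul ct ct, ← Q_mul ((show Commute t y from ct).mul_left ct).eq ct, t3, Q_one]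
  · rw [← eTB]
    rcases tb with e | e
    · exact Or.inl (by rw [e, Q_mul ca cb])
    · exact Or.inr (by rw [e, Q_mul cab cz, Q_mul ca cb])
  · rw [← Q_mul hxy ca, ← Q_mul ca hxy, xa]
  · rw [← Q_mul hxy ct, ← Q_mul ct hxy, xt]

theorem Pair.core' (h : S.Pair g) :
    Perm.sign (S.Q g S.z) = 1 ∧ ∀ k ∈ S.K, k * (g * S.z * g⁻¹) = g * S.z * g⁻¹ * k →
      S.Q g k = 1 ∨ S.Q g k = S.Q g S.z := by
  obtain ⟨h2, h1⟩ := h.P_y
  obtain ⟨c1, c2⟩ := h.core (exists_wit h2 h1) fun τ _ hτ => hτ.symm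
  exact ⟨c1, fun k hk hky => c2 k (S.K_comm hk) hky fun τ _ _ => by rw [S.P_K hk, one_mul, mul_one]⟩

theorem Pair.sign_y (h : S.Pair g) : Perm.sign (S.P (g * S.z * g⁻¹)) = 1 := by
  have := h.symm.core'.1
  rwa [Q, inv_inv] at this

/-- No element of the centraliser of the component squares to the involution and commutes with the
conjugate. -/
theorem Pair.no_root (h : S.Pair g) {k : G} (hk : k ∈ S.K) (k2 : k * k = S.z)
    (hky : k * (g * S.z * g⁻¹) = g * S.z * g⁻¹ * k) : False := by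
  refine h.Q_z_ne ?_
  have e : S.Q g S.z = S.Q g k * S.Q g k := by rw [← Q_mul hky hky, k2]
  have hzz : S.Q g S.z * S.Q g S.z = 1 := by rw [← Q_mul h.z_comm h.z_comm, S.z_sq, Q_one]
  rcases h.core'.2 k hk hky with h' | h' <;> rw [e, h']
  · rw [one_mul]
  · exact hzz

/-- The involution is the only involution of the centraliser of the component commuting with the
conjugate. -/
theorem Pair.key (h : S.Pair g) {k : G} (hk : k ∈ S.K) (k2 : k * k = 1) (k1 : k ≠ 1)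
    (hky : k * (g * S.z * g⁻¹) = g * S.z * g⁻¹ * k) : k = S.z := by
  have bad : ∀ x ∈ S.K, x * x = 1 → x * (g * S.z * g⁻¹) = g * S.z * g⁻¹ * x → S.Q g x = 1 → x = 1 := by
    intro x hx x2 hxy e
    by_contra x1
    have hK : g⁻¹ * x * g ∈ S.K := (S.P_eq_one (Q_comm hxy)).1 e
    exact h.2 (by rw [S.meet x g hx hK x2 x1, mul_inv_cancel_right])
  rcases h.core'.2 k hk hky with e | e
  · exact absurd (bad k hk k2 hky e) k1
  · have hc : Commute k S.z := S.K_comm hk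
    have h' := bad (k * S.z) (mul_mem hk S.z_K)
      (by rw [show k * S.z * (k * S.z) = k * (S.z * k) * S.z by group, ← hc.eq,
        show k * (k * S.z) * S.z = k * k * (S.z * S.z) by group, k2, S.z_sq, one_mul])
      ((show Commute k _ from hky).mul_left h.z_comm).eq
      (by rw [Q_mul hky h.z_comm, e, ← Q_mul h.z_comm h.z_comm, S.z_sq, Q_one])
    rw [eq_inv_of_mul_eq_one_left h', S.z_inv]

/-- The conjugate lies in the component. -/
theorem Pair.mem_L (h : S.Pair g) : g * S.z * g⁻¹ ∈ S.L := by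
  set y := g * S.z * g⁻¹ with hy
  obtain ⟨l, hl, el⟩ := S.exists_lift h.sign_y
  have hly := S.L_comm hl
  have hkc : l⁻¹ * y * S.z = S.z * (l⁻¹ * y) :=
    ((show Commute l S.z from hly).inv_left.mul_left h.1).eq
  have hk : l⁻¹ * y ∈ S.K := (S.P_eq_one hkc).1 (by
    rw [S.P_mul (S.L_comm (inv_mem hl)) h.1, S.P_inv hly, el, inv_mul_cancel])
  set k := l⁻¹ * y with hkdef
  have hyk : y = l * k := by rw [hkdef, mul_inv_cancel_left]
  have hkl : Commute k l := S.K_comm_L hk hl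
  have hky : k * y = y * k := by rw [hyk]; exact (hkl.mul_right (Commute.refl k)).eq
  have h1 : l * l * (k * k) = 1 := by
    rw [show l * l * (k * k) = l * (l * k) * k by group, ← hkl.eq,
      show l * (k * l) * k = l * k * (l * k) by group, ← hyk]
    exact Pair.y_sq S g
  have hy1 : y ∈ S.L ∨ k ≠ 1 ∧ k ≠ S.z := by
    by_cases e1 : k = 1
    · exact Or.inl (by rw [hyk, e1, mul_one]; exact hl)
    by_cases e2 : k = S.z
    · exact Or.inl (by rw [hyk, e2]; exact mul_mem hl S.z_L)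
    exact Or.inr ⟨e1, e2⟩
  rcases hy1 with h' | ⟨k1, kz⟩
  · exact h'
  exfalso
  rcases S.eq_or_mul_z (mul_mem hl hl) (one_mem _) (by
      rw [S.P_mul hly hly, el, h.P_y.1, S.P_one]) with e | e
  · rw [e, one_mul] at h1
    exact kz (h.key hk h1 k1 hky)
  · rw [e, one_mul] at h1
    exact h.no_root hk (by rw [eq_inv_of_mul_eq_one_right h1, S.z_inv]) hky

theorem Pair.support (h : S.Pair g) : (S.P (g * S.z * g⁻¹)).support.card = 8 :=
  S.support_eight h.mem_L (Pair.y_sq S g) (y_ne S g) h.2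

theorem Pair.K_comm_y (h : S.Pair g) {k : G} (hk : k ∈ S.K) :
    k * (g * S.z * g⁻¹) = g * S.z * g⁻¹ * k := S.K_comm_L hk h.mem_L

theorem Pair.K_invol (h : S.Pair g) {k : G} (hk : k ∈ S.K) (k2 : k * k = 1) (k1 : k ≠ 1) : k = S.z :=
  h.key hk k2 k1 (h.K_comm_y hk)

theorem Pair.K_no_root (h : S.Pair g) {k : G} (hk : k ∈ S.K) (k2 : k * k = S.z) : False :=
  h.no_root hk k2 (h.K_comm_y hk)

/-- Every noncentral involution of the component is a conjugate of the involution. -/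
theorem Pair.L_conj (h : S.Pair g) {l : G} (hl : l ∈ S.L) (l2 : l * l = 1) (l1 : l ≠ 1) (lz : l ≠ S.z) :
    ∃ g' : G, g' * S.z * g'⁻¹ = l := by
  obtain ⟨c, -, e⟩ := S.invol_conj h.mem_L (Pair.y_sq S g) (y_ne S g) h.2 hl l2 l1 lz
  exact ⟨c * g, by rw [← e]; group⟩

end Base

end Cfsg.Agent.StdMcL
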