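import Cfsg.Agent.StdMcL.Core

/-!
By transfer the centraliser of the involution induces inner automorphisms only.
-/

set_option autoImplicit false
set_option maxHeartbeats 1000000
set_option linter.style.haveILetI false

namespace Cfsg.Agent.StdMcL

open Subgroup Equiv

variable {G : Type*} [Group G] [Finite G]

namespace Base

variable {S : Base G} {g₀ : G}

/-- An involution inducing an inner automorphism lies in the component. -/
theorem even_invol (h₀ : S.Pair g₀) {j : G} (hj : j * S.z = S.z * j) (j2 : j * j = 1)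
    (hs : Perm.sign (S.P j) = 1) : j ∈ S.L := by
  obtain ⟨l, hl, el⟩ := S.exists_lift hs
  have hly := S.L_comm hl
  have hkc : l⁻¹ * j * S.z = S.z * (l⁻¹ * j) :=
    ((show Commute l S.z from hly).inv_left.mul_left hj).eq
  have hk : l⁻¹ * j ∈ S.K := (S.P_eq_one hkc).1 (by
    rw [S.P_mul (S.L_comm (inv_mem hl)) hj, S.P_inv hly, el, inv_mul_cancel])
  set k := l⁻¹ * j with hkdef
  have hjk : j = l * k := by rw [hkdef, mul_inv_cancel_left]
  have hkl : Commute k l := S.K_comm_L hk hl
  have h1 : l * l * (k * k) = 1 := by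
    rw [show l * l * (k * k) = l * (l * k) * k by group, ← hkl.eq,
      show l * (k * l) * k = l * k * (l * k) by group, ← hjk, j2]
  rcases S.eq_or_mul_z (mul_mem hl hl) (one_mem _) (by
      rw [S.P_mul hly hly, el, ← S.P_mul hj hj, j2]) with e | e
  · rw [e, one_mul] at h1
    by_cases k1 : k = 1
    · rw [hjk, k1, mul_one]; exact hl
    · rw [hjk, h₀.K_invol hk h1 k1]; exact mul_mem hl S.z_L
  · rw [e, one_mul] at h1
    exact (h₀.K_no_root hk (by rw [eq_inv_of_mul_eq_one_right h1, S.z_inv])).elim

theorem invol_in_L (h₀ : S.Pair g₀) {j : G} (hj : j * S.z = S.z * j) (j2 : j * j = 1) (j1 : j ≠ 1)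
    (hs : Perm.sign (S.P j) = 1) : ∃ g : G, g * S.z * g⁻¹ = j := by
  by_cases jz : j = S.z
  · exact ⟨1, by rw [jz, one_mul, inv_one, mul_one]⟩
  · exact h₀.L_conj (even_invol h₀ hj j2 hs) j2 j1 jz

theorem conj_even {g : G} (hc : g * S.z * g⁻¹ * S.z = S.z * (g * S.z * g⁻¹)) :
    Perm.sign (S.P (g * S.z * g⁻¹)) = 1 := by
  by_cases e : g * S.z * g⁻¹ = S.z
  · rw [e, S.P_z, map_one]
  · exact Pair.sign_y ⟨hc, e⟩

/-- The centraliser of the involution induces inner automorphisms only. -/
theorem sign_even [IsSimpleGroup G] (hG : ¬ IsMulCommutative G) (h₀ : S.Pair g₀) {h : G}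
    (hh : h * S.z = S.z * h) : Perm.sign (S.P h) = 1 := by
  classical
  haveI : Fact (Nat.Prime 2) := ⟨Nat.prime_two⟩
  by_contra hne
  have hodd : Perm.sign (S.P h) = -1 := (Int.units_eq_one_or _).resolve_left hne
  obtain ⟨O⟩ := exists_oddPart h₀
  -- an element with image a transposition and square one or the involution
  obtain ⟨l, hl, el⟩ := S.exists_lift (p := (S.P h)⁻¹ * swap 6 7) (by
    rw [map_mul, map_inv, hodd, Perm.sign_swap (by decide : (6 : Fin 8) ≠ 7)]; rfl)
  set e₀ := h * l with he₀def
  have he₀ : e₀ * S.z = S.z * e₀ := ((show Commute h S.z from hh).mul_left (S.L_comm hl)).eq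
  have hP₀ : S.P e₀ = swap 6 7 := by rw [he₀def, S.P_mul hh (S.L_comm hl), el, mul_inv_cancel_left]
  have hsq : e₀ * e₀ ∈ S.K := (S.P_eq_one ((show Commute e₀ S.z from he₀).mul_left he₀).eq).1 (by
    rw [S.P_mul he₀ he₀, hP₀, swap_mul_self])
  obtain ⟨r, hr⟩ := O.odd
  set e := e₀ ^ Nat.card O.X with hedef
  have hec : e * S.z = S.z * e := (Commute.pow_left he₀ _).eq
  have hPe : S.P e = swap 6 7 := by
    rw [hedef, S.P_pow he₀, hP₀, hr, pow_succ, pow_mul, pow_two, swap_mul_self, one_pow, one_mul]
  have he2 : e * e = 1 ∨ e * e = S.z := by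
    rw [hedef, ← (Commute.refl e₀).mul_pow]
    rcases O.split _ hsq with hx | hx
    · exact Or.inl (O.pow_card hx)
    · refine Or.inr ?_
      have hc : Commute (e₀ * e₀ * S.z) S.z :=
        ((show Commute e₀ S.z from he₀).mul_left he₀).mul_left (Commute.refl _)
      have e1 : (e₀ * e₀ * S.z * S.z) ^ Nat.card O.X = (e₀ * e₀) ^ Nat.card O.X := by
        rw [mul_assoc (e₀ * e₀), S.z_sq, mul_one]
      rw [← e1, hc.mul_pow, O.pow_card hx, one_mul, hr, pow_succ, pow_mul, pow_two, S.z_sq, one_pow, one_mul]
  have he4 : e ^ 4 = 1 := by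
    rw [show 4 = 2 * 2 from rfl, pow_mul, pow_two e]
    rcases he2 with e' | e' <;> rw [e', pow_two]
    · rw [one_mul]
    · exact S.z_sq
  have hse : Perm.sign (S.P e) = -1 := by rw [hPe, Perm.sign_swap (by decide : (6 : Fin 8) ≠ 7)]
  -- the transfer
  set M := centralizer ({S.z} : Set G) with hM
  let ϕ : M →* ℤˣ := Perm.sign.comp S.π
  have hϕ : ∀ y : M, ϕ y = Perm.sign (S.P y) := fun y => by
    rw [S.P_eq (mem_centralizer_singleton_iff.1 y.2)]; rfl
  have htr : MonoidHom.transfer ϕ e = 1 := by
    rcases (MonoidHom.normal_ker (MonoidHom.transfer ϕ)).eq_bot_or_eq_top with h' | h'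
    · exact absurd ⟨⟨fun a b => (MonoidHom.ker_eq_bot_iff _).1 h' (by rw [map_mul, map_mul, mul_comm])⟩⟩ hG
    · exact MonoidHom.mem_ker.1 (h' ▸ Subgroup.mem_top e)
  letI : Fintype (Quotient (MulAction.orbitRel (zpowers e) (G ⧸ M))) := Fintype.ofFinite _
  rw [MonoidHom.transfer_eq_prod_quotient_orbitRel_zpowers_quot] at htr
  have hfac : ∀ q : Quotient (MulAction.orbitRel (zpowers e) (G ⧸ M)),
      ϕ ⟨q.out.out⁻¹ * e ^ Function.minimalPeriod (e • ·) q.out * q.out.out,
        QuotientGroup.out_conj_pow_minimalPeriod_mem M e q.out⟩ =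
      if e • q.out = q.out then (-1 : ℤˣ) else 1 := by
    intro q
    rw [hϕ]
    set g := q.out.out with hg
    set L := Function.minimalPeriod (e • ·) q.out with hL
    have hmem : g⁻¹ * e ^ L * g ∈ M := QuotientGroup.out_conj_pow_minimalPeriod_mem M e q.out
    show Perm.sign (S.P (g⁻¹ * e ^ L * g)) = _
    by_cases hf : e • q.out = q.out
    · rw [if_pos hf]
      have hL1 : L = 1 := Function.minimalPeriod_eq_one_iff_isFixedPt.2 hf
      rw [hL1, pow_one] at hmem ⊢
      have hj := mem_centralizer_singleton_iff.1 hmem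
      refine (Int.units_eq_one_or _).resolve_left fun hev => ?_
      rcases he2 with e2 | e2
      · obtain ⟨g', hg'⟩ := invol_in_L h₀ hj
          (by rw [show g⁻¹ * e * g * (g⁻¹ * e * g) = g⁻¹ * (e * e) * g by group, e2]; group)
          (fun h1 => by
            rw [show e = g * (g⁻¹ * e * g) * g⁻¹ by group, h1, mul_one, mul_inv_cancel, S.P_one, map_one] at hse
            exact absurd hse (by decide))
          hev
        have he' : g * g' * S.z * (g * g')⁻¹ = e := by
          rw [show g * g' * S.z * (g * g')⁻¹ = g * (g' * S.z * g'⁻¹) * g⁻¹ by group, hg']; group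
        have := conj_even (S := S) (g := g * g') (by rw [he']; exact hec)
        rw [he', hse] at this
        exact absurd this (by decide)
      · by_cases hgz : g * S.z * g⁻¹ = S.z
        · have hgc : g * S.z = S.z * g := mul_inv_eq_iff_eq_mul.1 hgz
          have hgi := (show Commute g S.z from hgc).inv_left.eq
          rw [S.P_mul ((show Commute g⁻¹ S.z from hgi).mul_left hec).eq hgc, S.P_mul hgi hec,
            S.P_inv hgc, map_mul, map_mul, map_inv, hse] at hev
          rcases Int.units_eq_one_or (Perm.sign (S.P g)) with u | u <;> rw [u] at hev <;>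
            exact absurd hev (by decide)
        set y := g * S.z * g⁻¹ with hy
        have hey : e * y = y * e := by
          calc e * y = g * (g⁻¹ * e * g * S.z) * g⁻¹ := by rw [hy]; group
            _ = y * e := by rw [hj, hy]; group
        have hyz : y * S.z = S.z * y := by
          rw [← e2]; exact (((show Commute e y from hey).mul_left hey)).symm.eq
        have hP : S.Pair g := ⟨hyz, hgz⟩
        have hc' : S.P y * swap 6 7 = swap 6 7 * S.P y := by
          rw [← hPe, ← S.P_mul hyz hec, ← S.P_mul hec hyz, hey]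
        have hfree : ∀ x : Fin 8, S.P y x ≠ x := fun x => Perm.mem_support.1 (by
          rw [Finset.eq_univ_of_card (S.P y).support (by rw [hP.support, Fintype.card_fin])]; exact Finset.mem_univ x)
        have hy2 : ∀ x, S.P y (S.P y x) = x := fun x => by
          rw [← Perm.mul_apply, hP.P_y.1, Perm.one_apply]
        have h67 : S.P y 6 = 7 := by
          have e6 := congrArg (fun f : Perm (Fin 8) => f 6) hc'
          simp only [Perm.mul_apply, swap_apply_left] at e6
          by_contra hne6
          rw [swap_apply_of_ne_of_ne (hfree 6) hne6] at e6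
          exact absurd ((S.P y).injective e6) (by decide)
        have h76 : S.P y 7 = 6 := by rw [← h67, hy2]
        have hfix : ∀ x : Fin 8, (S.P y * swap (6 : Fin 8) 7) x = x ↔ x = 6 ∨ x = 7 := by
          intro x
          rw [Perm.mul_apply]
          refine ⟨fun hx => ?_, ?_⟩
          · by_contra hne'
            push Not at hne'
            rw [swap_apply_of_ne_of_ne hne'.1 hne'.2] at hx
            exact hfree x hx
          · rintro (rfl | rfl)
            · rw [swap_apply_left, h76]
            · rw [swap_apply_right, h67]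
        have hW : Wit (S.P y * swap 6 7) := exists_wit
          (by rw [show S.P y * swap 6 7 * (S.P y * swap 6 7) = S.P y * (swap 6 7 * S.P y) * swap 6 7 by group,
            ← hc', show S.P y * (S.P y * swap 6 7) * swap 6 7 = S.P y * S.P y * (swap 6 7 * swap 6 7) by group,
            hP.P_y.1, swap_mul_self, one_mul])
          (fun e1 => by
            have := (hfix 0).1 (by rw [e1, Perm.one_apply])
            revert this; decide)
        have hsw : ∀ τ : Perm (Fin 8), τ * τ * τ = 1 → τ * (S.P y * swap 6 7) = S.P y * swap 6 7 * τ →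
            swap 6 7 * τ = τ * swap 6 7 := fun τ t3 tc => (comm_swap hfix t3 tc).symm
        obtain ⟨-, hrig⟩ := hP.core hW fun τ t3 tc => by
          have e1 : S.P y = S.P y * swap 6 7 * swap 6 7 := by rw [mul_assoc, swap_mul_self, mul_one]
          rw [e1]
          exact ((show Commute τ _ from tc).mul_right (hsw τ t3 tc).symm).symm.eq
        refine hP.Q_z_ne ?_
        have hq : S.Q g S.z = S.Q g e * S.Q g e := by rw [← Q_mul hey hey, e2]
        have hzz : S.Q g S.z * S.Q g S.z = 1 := by rw [← Q_mul hP.z_comm hP.z_comm, S.z_sq, Q_one]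
        rcases hrig e hec hey fun τ t3 tc => by rw [hPe]; exact hsw τ t3 tc with h' | h' <;> rw [hq, h']
        · rw [one_mul]
        · exact hzz
    · rw [if_neg hf]
      have hL4 : L ∣ 4 := Function.IsPeriodicPt.minimalPeriod_dvd (by
        show (e • ·)^[4] q.out = q.out
        rw [smul_iterate, he4]
        exact one_smul G _)
      have hL1 : L ≠ 1 := fun h => hf (Function.minimalPeriod_eq_one_iff_isFixedPt.1 h)
      obtain hL2 | hL4' : L = 2 ∨ L = 4 := by
        have := Nat.le_of_dvd (by norm_num) hL4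
        interval_cases L <;> omega
      · rw [hL2, pow_two] at hmem ⊢
        rcases he2 with e2 | e2
        · rw [e2, mul_one, inv_mul_cancel, S.P_one, map_one]
        · rw [e2] at hmem ⊢
          have h' := conj_even (S := S) (g := g⁻¹)
            (by rw [inv_inv]; exact mem_centralizer_singleton_iff.1 hmem)
          rwa [inv_inv] at h'
      · rw [hL4', he4, mul_one, inv_mul_cancel, S.P_one, map_one]
  rw [Finset.prod_congr rfl fun q _ => hfac q, Finset.prod_ite, Finset.prod_const_one, mul_one,
    Finset.prod_const] at htr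
  -- the number of fixed cosets is odd
  have hcard : (Finset.univ.filter fun q : Quotient (MulAction.orbitRel (zpowers e) (G ⧸ M)) =>
      e • q.out = q.out).card = Nat.card (MulAction.fixedPoints (zpowers e) (G ⧸ M)) := by
    rw [← Fintype.card_subtype, ← Nat.card_eq_fintype_card]
    have hfixed : ∀ x : G ⧸ M, e • x = x → ∀ k : zpowers e, k • x = x := by
      rintro x hx ⟨k, i, rfl⟩
      exact MulAction.mem_stabilizer_iff.1
        (Subgroup.zpow_mem _ (MulAction.mem_stabilizer_iff.2 hx) i)
    refine Nat.card_congr (Equiv.ofBijective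
      (fun q => ⟨q.1.out, hfixed _ q.2⟩) ⟨fun q q' h => ?_, fun x => ?_⟩)
    · exact Subtype.ext (Quotient.out_inj.1 (congrArg Subtype.val h))
    · have hr' := MulAction.orbitRel_apply.1 (Quotient.mk_out (s := MulAction.orbitRel (zpowers e) (G ⧸ M)) x.1)
      obtain ⟨k, hk⟩ := hr'
      have hx := x.2 k
      have hout : (Quotient.mk (MulAction.orbitRel (zpowers e) (G ⧸ M)) x.1).out = x.1 := hk.symm.trans hx
      refine ⟨⟨_, ?_⟩, Subtype.ext hout⟩
      exact (congrArg (e • ·) hout).trans ((x.2 ⟨e, mem_zpowers e⟩).trans hout.symm)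
  have hep : IsPGroup 2 (zpowers e) := fun k => by
    obtain ⟨i, hi⟩ := k.2
    refine ⟨2, Subtype.ext ?_⟩
    rw [Subgroup.coe_pow, Subgroup.coe_one, ← hi]
    show (e ^ i) ^ 2 ^ 2 = 1
    rw [← zpow_natCast, zpow_comm, zpow_natCast, show 2 ^ 2 = 4 from rfl, he4, one_zpow]
  have hmod := hep.card_modEq_card_fixedPoints (G ⧸ M)
  rw [← hcard] at hmod
  have hidx : Nat.card (G ⧸ M) % 2 = 1 := Nat.two_dvd_ne_zero.1 (odd_index S)
  rw [Nat.ModEq, hidx] at hmod
  rw [← Nat.mod_add_div (Finset.card _) 2, ← hmod, pow_add, pow_mul, pow_one,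
    (pow_two _).trans (Int.units_mul_self _), one_pow, mul_one] at htr
  exact absurd htr (by decide)

/-- The centraliser of the involution is the product of the component and its centraliser. -/
theorem exists_LK [IsSimpleGroup G] (hG : ¬ IsMulCommutative G) (h₀ : S.Pair g₀) {h : G}
    (hh : h * S.z = S.z * h) : ∃ l ∈ S.L, l⁻¹ * h ∈ S.K := by
  obtain ⟨l, hl, el⟩ := S.exists_lift (sign_even hG h₀ hh)
  refine ⟨l, hl, (S.P_eq_one ((show Commute l S.z from S.L_comm hl).inv_left.mul_left hh).eq).1 ?_⟩
  rw [S.P_mul (S.L_comm (inv_mem hl)) hh, S.P_inv (S.L_comm hl), el, inv_mul_cancel]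

/-- All involutions of the centraliser are conjugate to it. -/
theorem inv_conj [IsSimpleGroup G] (hG : ¬ IsMulCommutative G) (h₀ : S.Pair g₀) {j : G}
    (hj : j * S.z = S.z * j) (j2 : j * j = 1) (j1 : j ≠ 1) : ∃ g : G, g * S.z * g⁻¹ = j :=
  invol_in_L h₀ hj j2 j1 (sign_even hG h₀ hj)

end Base

end Cfsg.Agent.StdMcL
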